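import Mathlib
import Cfsg.Agent.H67.PCov
import Cfsg.Agent.Nodes.RGDLift
import Cfsg.Agent.KFacts.MulOdd.Main
set_option linter.all false

/-!
# Central extensions in cross characteristic: groups with a root group datum

* `NoCE p r P`: no central extension of `P` by a group of order `r` is generated by `p`-elements.
* `NoCE.of_cyclic`: `P` has a cyclic subgroup of index prime to `r` (`r ≠ p`).
* `NoCE.of_quaternion`: `r = 2`, quaternion Sylow 2-subgroups.
* `CDatum cs h p r T n X`: root group datum in characteristic `p`, generated by its root groups, whose torus is the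
  product of the tori of the rank one subgroups `Lv X i`, with `NoCE p r (Lv X i)` for all `i`.
* `CDatum.noPCov`: then there is no perfect central extension with kernel of order `r`.
-/

set_option autoImplicit false
set_option linter.style.haveILetI false

namespace Cfsg.Agent.H67.Cross

open CoxeterSystem Cfsg.Agent.ChevalleyStructure.CoxeterGeom Cfsg.Agent.Tits.Roots
  Cfsg.Agent.Nodes.Reps Cfsg.Agent.Nodes.BNOf Cfsg.Agent.Nodes.RGDLib Cfsg.Agent.Nodes.RGDLift
  Cfsg.Agent.KFacts.MulOdd.Inst Cfsg.Agent.KFacts.MulOdd.Shrink Cfsg.Agent.KFacts.MulOdd.Main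
  Cfsg.Agent.KFacts.MulOdd.RankOne
open scoped commutatorElement Pointwise

universe u v

/-- No central extension of `P` by a group of order `r` is generated by `p`-elements. -/
def NoCE (p r : ℕ) (P : Type v) [Group P] : Prop :=
  ∀ (H : Type) [Group H] [Finite H] (f : H →* P) (c : H), Function.Surjective f → c ≠ 1 → c ^ r = 1 →
    (∀ x, c * x = x * c) → (∀ x, f x = 1 ↔ x ∈ Subgroup.zpowers c) →
    Subgroup.closure {x : H | ∃ k : ℕ, x ^ p ^ k = 1} = ⊤ → False

theorem NoCE.congr {p r : ℕ} {P : Type u} {Q : Type v} [Group P] [Group Q] (h : NoCE p r P) (e : P ≃* Q) :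
    NoCE p r Q := by
  intro H _ _ f c hf h1 h2 h3 h4 h5
  refine h H (e.symm.toMonoidHom.comp f) c (e.symm.surjective.comp hf) h1 h2 h3 (fun x => ?_) h5
  show e.symm (f x) = 1 ↔ _
  rw [map_eq_one_iff _ e.symm.injective, h4]

/-- An element of order `r` in the image under a homomorphism to a commutative group of a group generated by
`p`-elements. -/
theorem false_of_hom {p r : ℕ} (hp : p.Prime) (hr : r.Prime) (hne : r ≠ p) {H B : Type*} [Group H] [CommGroup B]
    (hgen : Subgroup.closure {x : H | ∃ k : ℕ, x ^ p ^ k = 1} = ⊤) (V : H →* B) {c : H} (hc : c ^ r = 1)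
    (hVc : V c ≠ 1) : False := by
  have key : ∀ x : H, ∃ k : ℕ, V x ^ p ^ k = 1 := by
    intro x
    have hx : x ∈ Subgroup.closure {x : H | ∃ k : ℕ, x ^ p ^ k = 1} := by rw [hgen]; trivial
    induction hx using Subgroup.closure_induction with
    | mem x hx =>
      obtain ⟨k, hk⟩ := hx
      exact ⟨k, by rw [← map_pow, hk, map_one]⟩
    | one => exact ⟨0, by simp⟩
    | mul x y _ _ hx hy =>
      obtain ⟨k, hk⟩ := hx
      obtain ⟨l, hl⟩ := hy
      refine ⟨k + l, ?_⟩
      rw [map_mul, mul_pow]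
      have e1 : V x ^ p ^ (k + l) = 1 := by rw [pow_add, pow_mul, hk, one_pow]
      have e2 : V y ^ p ^ (k + l) = 1 := by rw [add_comm, pow_add, pow_mul, hl, one_pow]
      rw [e1, e2, mul_one]
    | inv x _ hx =>
      obtain ⟨k, hk⟩ := hx
      exact ⟨k, by rw [map_inv, inv_pow, hk, inv_one]⟩
  obtain ⟨k, hk⟩ := key c
  have h1 : V c ^ r = 1 := by rw [← map_pow, hc, map_one]
  have h2 : Nat.Coprime (p ^ k) r := Nat.Coprime.pow_left k ((Nat.coprime_primes hp hr).2 (Ne.symm hne))
  exact hVc (orderOf_eq_one_iff.1 (Nat.eq_one_of_dvd_coprimes h2 (orderOf_dvd_of_pow_eq_one hk)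
    (orderOf_dvd_of_pow_eq_one h1)))

theorem mul_comm_of_cyclic {P : Type v} [Group P] {S : Subgroup P} (hcyc : IsCyclic S) {H : Type u} [Group H]
    {f : H →* P} (hf : Function.Surjective f) (hcen' : ∀ x, f x = 1 → ∀ y, x * y = y * x) (x y : H)
    (hx : f x ∈ S) (hy : f y ∈ S) : x * y = y * x := by
  obtain ⟨⟨g, hg⟩, hgen'⟩ := hcyc.exists_generator
  obtain ⟨g', hg'⟩ := hf g
  have key : ∀ x : H, f x ∈ S → ∃ (k : ℤ) (z : H), f z = 1 ∧ x = g' ^ k * z := by
    intro x hx
    obtain ⟨k, hk⟩ := Subgroup.mem_zpowers_iff.1 (hgen' ⟨f x, hx⟩)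
    have hk' : g ^ k = f x := congrArg Subtype.val hk
    exact ⟨k, (g' ^ k)⁻¹ * x, by rw [map_mul, map_inv, map_zpow, hg', hk', inv_mul_cancel], by group⟩
  obtain ⟨k, z, hz, rfl⟩ := key x hx
  obtain ⟨l, w, hw, rfl⟩ := key y hy
  have h1 : Commute z w := hcen' z hz w
  have h2 : ∀ j : ℤ, Commute z (g' ^ j) := fun j => hcen' z hz _
  have h3 : ∀ j : ℤ, Commute w (g' ^ j) := fun j => hcen' w hw _
  have h4 : Commute (g' ^ k) (g' ^ l) := (Commute.refl g').zpow_zpow k l
  exact ((h4.mul_right (h3 k).symm).mul_left ((h2 l).mul_right h1)).eq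

/-- A subgroup of index prime to `r` whose preimages in central extensions are commutative. -/
theorem NoCE.of_comm {p r : ℕ} (hp : p.Prime) (hr : r.Prime) (hne : r ≠ p) {P : Type v} [Group P] {S : Subgroup P}
    (hS : ¬ r ∣ S.index) (hcomm : ∀ (H : Type) [Group H] [Finite H] (f : H →* P) (c : H), Function.Surjective f →
      c ≠ 1 → c ^ r = 1 → (∀ x, c * x = x * c) → (∀ x, f x = 1 ↔ x ∈ Subgroup.zpowers c) → ∀ x y : H, f x ∈ S →
      f y ∈ S → x * y = y * x) : NoCE p r P := by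
  intro H _ _ f c hf hc1 hcr hcen hker hgen
  let Q : Subgroup H := S.comap f
  letI : CommGroup Q := { (inferInstance : Group Q) with
    mul_comm := fun x y => Subtype.ext (hcomm H f c hf hc1 hcr hcen hker x y x.2 y.2) }
  have hcQ : c ∈ Q := by
    show f c ∈ S
    rw [(hker c).2 (Subgroup.mem_zpowers c)]; exact one_mem S
  have hQ : ¬ r ∣ Q.index := by rwa [Subgroup.index_comap_of_surjective _ hf]
  have h1 : ∀ (k : ℕ) (g₀ : H), g₀⁻¹ * c ^ k * g₀ ∈ Q → g₀⁻¹ * c ^ k * g₀ = c ^ k := by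
    intro k g₀ _
    have h2 : Commute c g₀ := hcen g₀
    rw [mul_assoc, (h2.pow_left k).eq]; group
  have h3 := MonoidHom.transfer_eq_pow (MonoidHom.id Q) c h1
  refine false_of_hom hp hr hne hgen (MonoidHom.transfer (MonoidHom.id Q)) hcr ?_
  rw [h3]
  intro h4
  have h5 : c ^ Q.index = 1 := congrArg Subtype.val h4
  have h6 : Nat.Coprime r Q.index := (Nat.Prime.coprime_iff_not_dvd hr).2 hQ
  exact hc1 (orderOf_eq_one_iff.1 (Nat.eq_one_of_dvd_coprimes h6 (orderOf_dvd_of_pow_eq_one hcr)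
    (orderOf_dvd_of_pow_eq_one h5)))

/-- A cyclic subgroup of index prime to `r`. -/
theorem NoCE.of_cyclic {p r : ℕ} (hp : p.Prime) (hr : r.Prime) (hne : r ≠ p) {P : Type v} [Group P] {S : Subgroup P}
    (hS : ¬ r ∣ S.index) (hcyc : IsCyclic S) : NoCE p r P := by
  refine NoCE.of_comm hp hr hne hS fun H _ _ f c hf _ _ hcen hker x y hx hy => ?_
  refine mul_comm_of_cyclic hcyc hf (fun x hx y => ?_) x y hx hy
  obtain ⟨k, rfl⟩ := Subgroup.mem_zpowers_iff.1 ((hker x).1 hx)
  exact ((show Commute c y from hcen y).zpow_left k).eq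

theorem NoCE.of_cyclic_sylow {p r : ℕ} (hp : p.Prime) (hr : r.Prime) (hne : r ≠ p) {P : Type v} [Group P] [Finite P]
    (h : ∀ S : Sylow r P, IsCyclic S) : NoCE p r P := by
  have := Fact.mk hr
  let S : Sylow r P := default
  exact NoCE.of_cyclic hp hr hne S.not_dvd_index (h S)

theorem NoCE.of_not_dvd {p r : ℕ} (hp : p.Prime) (hr : r.Prime) (hne : r ≠ p) {P : Type v} [Group P]
    (h : ¬ r ∣ Nat.card P) : NoCE p r P :=
  NoCE.of_cyclic hp hr hne (S := ⊥) (by rwa [Subgroup.index_bot]) inferInstance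

/-- Quaternion Sylow 2-subgroups. -/
theorem NoCE.of_quaternion {p : ℕ} (hp : p.Prime) (hne : p ≠ 2) {P : Type v} [Group P] {S : Subgroup P}
    (hS : ¬ 2 ∣ S.index) {k : ℕ} (e : S ≃* QuaternionGroup (2 ^ k)) : NoCE p 2 P := by
  intro H _ _ f c hf hc1 hcr hcen hker hgen
  have hsq : c * c = 1 := by rw [← pow_two]; exact hcr
  refine false_of_quaternion hf (c := c) hc1 hcen (fun x => ?_) hp hne hgen hS e
  rw [hker, mem_zpowers_of_sq hsq]

/-- Root group datum with rank one subgroups without central extensions. -/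
structure CDatum {I W Y : Type*} [Fintype I] [DecidableEq I] [Group W] [Group Y] {M : CoxeterMatrix I}
    (cs : CoxeterSystem M W) {A : I → I → ℤ} (h : IsCartan M A) (p r : ℕ) (T : Subgroup Y) (n : I → Y)
    (X : (I → ℤ) → Subgroup Y) : Prop extends RGD cs h p T n X where
  gen : G1 cs h X = ⊤
  prime : p.Prime
  prime' : r.Prime
  ne : r ≠ p
  card_le : ∏ i, Nat.card ↥(T ⊓ Lv X i) ≤ Nat.card T
  rk : ∀ i, NoCE p r ↥(Lv X i)

section main

variable {I W G L : Type*} [Fintype I] [DecidableEq I] [Group W] [Finite W] [Group G] {L : Type} [Group L] [Finite L]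
  {M : CoxeterMatrix I} {cs : CoxeterSystem M W} {A : I → I → ℤ} {h : IsCartan M A} {p r : ℕ} {T : Subgroup G}
  {n : I → G} {X : (I → ℤ) → Subgroup G} {π : L →* G} {c : L}

omit [Finite L] in
/-- A subgroup of a perfect group which covers the quotient by a central subgroup is the whole group. -/
theorem eq_top_of_perfect' (hd : PCov r π c) {K : Subgroup L} (hK : K.map π = ⊤) : K = ⊤ := by
  rw [eq_top_iff, ← hd.perf, commutator_eq_closure, Subgroup.closure_le]
  rintro _ ⟨s, t, rfl⟩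
  have key : ∀ s : L, ∃ s' ∈ K, ∃ z, π z = 1 ∧ s = s' * z := by
    intro s
    have h1 : π s ∈ K.map π := by rw [hK]; trivial
    obtain ⟨k, hk, hks⟩ := h1
    exact ⟨k, hk, k⁻¹ * s, by rw [map_mul, map_inv, hks, inv_mul_cancel], by group⟩
  obtain ⟨s', hs', z, hz, rfl⟩ := key s
  obtain ⟨t', ht', w, hw, rfl⟩ := key t
  have hz' := hd.comm_of_pi hz
  have hw' := hd.comm_of_pi hw
  have h1 : ⁅s' * z, t' * w⁆ = ⁅s', t'⁆ := by
    rw [commutatorElement_def, commutatorElement_def]
    calc s' * z * (t' * w) * (s' * z)⁻¹ * (t' * w)⁻¹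
        = s' * (z * (t' * w)) * z⁻¹ * s'⁻¹ * (w⁻¹ * t'⁻¹) := by group
      _ = s' * t' * (w * s'⁻¹) * w⁻¹ * t'⁻¹ := by rw [hz']; group
      _ = s' * t' * s'⁻¹ * t'⁻¹ := by rw [hw']; group
  rw [h1, commutatorElement_def]
  exact mul_mem (mul_mem (mul_mem hs' ht') (inv_mem hs')) (inv_mem ht')

/-- The rank one subgroups of the extension do not contain `c`. -/
theorem inf_ker_eq (hd : PCov r π c) (D : CDatum cs h p r T n X) (i : I) {x : L}
    (hx : x ∈ Lv (fun x => lft p π (X x)) i) (hπ : π x = 1) : x = 1 := by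
  by_contra hx1
  haveI : Fact p.Prime := ⟨D.prime⟩
  haveI : Fact r.Prime := ⟨D.prime'⟩
  have hf := hd.ker_le
  have hp : (Nat.card π.ker).Coprime p := by
    rw [hd.card_ker D.prime']
    exact (Nat.coprime_primes D.prime' D.prime).2 D.ne
  have hP1 := D.pgrp i
  have hP2 := D.toRGD.pgrp' (isRoot_sr cs h i).neg
  set H : Subgroup L := Lv (fun x => lft p π (X x)) i with hH
  have hmap : H.map π = Lv X i := by
    rw [hH]
    unfold Lv
    rw [Subgroup.map_sup, map_lft hf hp hd.surj hP1, map_lft hf hp hd.surj hP2]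
  have hmem : ∀ y : H, π y ∈ Lv X i := by
    intro y
    rw [← hmap]
    exact Subgroup.mem_map_of_mem π y.2
  let f : H →* ↥(Lv X i) := (π.comp H.subtype).codRestrict (Lv X i) hmem
  have hfs : Function.Surjective f := by
    rintro ⟨y, hy⟩
    rw [← hmap] at hy
    obtain ⟨x, hx, hxy⟩ := hy
    exact ⟨⟨x, hx⟩, Subtype.ext hxy⟩
  have hz : Subgroup.zpowers x = Subgroup.zpowers c := by
    have h1 : Subgroup.zpowers x ≤ Subgroup.zpowers c := by
      rw [Subgroup.zpowers_le]; exact (hd.ker x).1 hπ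
    refine Subgroup.eq_of_le_of_card_ge h1 ?_
    have h2 : x ^ r = 1 := by
      obtain ⟨k, rfl⟩ := Subgroup.mem_zpowers_iff.1 ((hd.ker x).1 hπ)
      rw [← zpow_natCast, ← zpow_mul, mul_comm, zpow_mul, zpow_natCast, hd.pow, one_zpow]
    rw [Nat.card_zpowers, Nat.card_zpowers, hd.orderOf_c D.prime', orderOf_eq_prime h2 hx1]
  have hgen : Subgroup.closure {x : H | ∃ k : ℕ, x ^ p ^ k = 1} = ⊤ := by
    set K := Subgroup.closure {x : H | ∃ k : ℕ, x ^ p ^ k = 1} with hK
    have h1 : ∀ P : Subgroup G, lft p π P ≤ H → lft p π P ≤ K.map H.subtype := by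
      intro P hP
      conv_lhs => unfold lft
      rw [Subgroup.closure_le]
      rintro y ⟨hy, k, hk⟩
      have hyH : y ∈ H := hP (Subgroup.subset_closure ⟨hy, k, hk⟩)
      exact ⟨⟨y, hyH⟩, Subgroup.subset_closure ⟨k, Subtype.ext hk⟩, rfl⟩
    have h2 : H ≤ K.map H.subtype := sup_le (h1 _ le_sup_left) (h1 _ le_sup_right)
    rw [eq_top_iff]
    intro x _
    obtain ⟨z, hz, hzx⟩ := h2 x.2
    have : z = x := Subtype.ext hzx
    rwa [← this]
  refine D.rk i H f ⟨x, hx⟩ hfs (fun h0 => hx1 (congrArg Subtype.val h0)) ?_ (fun y => ?_) (fun y => ?_) hgen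
  · refine Subtype.ext ?_
    show x ^ r = 1
    obtain ⟨k, rfl⟩ := Subgroup.mem_zpowers_iff.1 ((hd.ker x).1 hπ)
    rw [← zpow_natCast, ← zpow_mul, mul_comm, zpow_mul, zpow_natCast, hd.pow, one_zpow]
  · exact Subtype.ext (hd.comm_of_pi hπ y)
  · have h1 : f y = 1 ↔ π (y : L) = 1 := by
      rw [← Subtype.coe_inj]; rfl
    rw [h1, hd.ker, ← hz, Subgroup.mem_zpowers_iff, Subgroup.mem_zpowers_iff]
    refine exists_congr fun k => ?_
    rw [← Subtype.coe_inj]
    rfl

theorem false_of_pcov (hd : PCov r π c) (D : CDatum cs h p r T n X) : False := by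
  haveI : Fact p.Prime := ⟨D.prime⟩
  have hf := hd.ker_le
  have hp : (Nat.card π.ker).Coprime p := by
    rw [hd.card_ker D.prime']
    exact (Nat.coprime_primes D.prime' D.prime).2 D.ne
  obtain ⟨g, hg⟩ := hd.surj.hasRightInverse
  have R := rgd_lift hf hp hd.surj D.toRGD (n := fun i => g (n i)) (fun i => hg (n i))
  set T' : Subgroup L := T.comap π with hT'
  set X' : (I → ℤ) → Subgroup L := fun x => lft p π (X x) with hX'
  -- generation
  have hmapG : (G1 cs h X').map π = ⊤ := by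
    rw [← D.gen]
    unfold G1 RGD.Sup
    rw [Subgroup.map_iSup]
    exact iSup_congr fun z => map_lft hf hp hd.surj (D.toRGD.pgrp' z.2)
  have hG1 : G1 cs h X' = ⊤ := eq_top_of_perfect' hd hmapG
  have hle := torus_le R hG1
  -- the orders
  have hcard1 : Nat.card T' ≤ ∏ i, Nat.card (Hv T' X' i) := by
    have h1 : ∀ i, ((Hv T' X' i).subgroupOf T').Normal := by
      intro i
      refine ⟨fun x hx t => ?_⟩
      rw [Subgroup.mem_subgroupOf] at hx ⊢
      refine Subgroup.mem_inf.2 ⟨(t * x * t⁻¹).2, ?_⟩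
      have h2 := cj_t_Lv R t.2 i
      have h3 : ((t * x * t⁻¹ : T') : L) ∈ cj (t : L) (Lv X' i) := conj_mem_cj.2 (Subgroup.mem_inf.1 hx).2
      rwa [h2] at h3
    have h2 : (⨆ i, (Hv T' X' i).subgroupOf T') = ⊤ := by
      rw [← iSup_subgroupOf (Hv T' X') (fun i => inf_le_left), Subgroup.subgroupOf_eq_top]
      exact hle
    have h3 := card_iSup_le _ h1
    rw [h2, Subgroup.card_top] at h3
    refine h3.trans (le_of_eq (Finset.prod_congr rfl fun i _ => ?_))
    exact Nat.card_congr (Subgroup.subgroupOfEquivOfLe (inf_le_left)).toEquiv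
  have hcard2 : ∀ i, Nat.card (Hv T' X' i) ≤ Nat.card ↥(T ⊓ Lv X i) := by
    intro i
    have hmem : ∀ x : Hv T' X' i, π x ∈ T ⊓ Lv X i := by
      intro x
      refine Subgroup.mem_inf.2 ⟨(Subgroup.mem_inf.1 x.2).1, ?_⟩
      have h1 : (Lv X' i).map π = Lv X i := by
        unfold Lv
        rw [Subgroup.map_sup, map_lft hf hp hd.surj (D.pgrp i),
          map_lft hf hp hd.surj (D.toRGD.pgrp' (isRoot_sr cs h i).neg)]
      rw [← h1]
      exact Subgroup.mem_map_of_mem π (Subgroup.mem_inf.1 x.2).2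
    haveI : Finite G := Finite.of_surjective π hd.surj
    refine Nat.card_le_card_of_injective (fun x : Hv T' X' i => (⟨π x, hmem x⟩ : ↥(T ⊓ Lv X i))) ?_
    intro x y hxy
    have h1 : π x = π y := congrArg Subtype.val hxy
    have h2 : π ((x : L)⁻¹ * y) = 1 := by rw [map_mul, map_inv, h1, inv_mul_cancel]
    have h3 : (x : L)⁻¹ * y = 1 :=
      inf_ker_eq hd D i (mul_mem (inv_mem (Subgroup.mem_inf.1 x.2).2) (Subgroup.mem_inf.1 y.2).2) h2
    exact Subtype.ext (inv_mul_eq_one.1 h3)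
  have hcard3 : Nat.card T' ≤ Nat.card T :=
    hcard1.trans ((Finset.prod_le_prod' fun i _ => hcard2 i).trans D.card_le)
  haveI : Finite G := Finite.of_surjective π hd.surj
  let ρ : T' → T := fun x => ⟨π x, x.2⟩
  have hρ : Function.Surjective ρ := by
    rintro ⟨t, ht⟩
    refine ⟨⟨g t, ?_⟩, Subtype.ext (hg t)⟩
    show π (g t) ∈ T
    rw [hg t]; exact ht
  have hinj := (hρ.bijective_of_nat_card_le hcard3).injective
  have hcT : c ∈ T' := by
    show π c ∈ T
    rw [hd.pi_c]
    exact one_mem T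
  have h1 : (⟨c, hcT⟩ : T') = 1 := by
    apply hinj
    apply Subtype.ext
    show π c = π 1
    rw [hd.pi_c, map_one]
  exact hd.ne (congrArg Subtype.val h1)

/-- **No perfect central extensions with kernel of order `r`.** -/
theorem CDatum.noPCov (D : CDatum cs h p r T n X) : NoPCov r G := fun _ _ _ _ _ hd => false_of_pcov hd D

end main

end Cfsg.Agent.H67.Cross
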