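import Mathlib
import Cfsg.Agent.H67.PCov
set_option linter.all false

-- part: H67/Chain
section
/-!
# Central extensions in the defining characteristic: the chain criterion

`noPCov_of_chain`: `X` finite, `p` a prime, `U` a subgroup of index prime to `p`,
`1 = V 0 ≤ V 1 ≤ ... ≤ V n = U` a chain with `[V (i+1), U] ≤ V i`, `T` a subgroup of order prime to `p` normalising the
`V i`, and such that every `T`-invariant bimultiplicative `F : V (i+1) / V i × U → ℂˣ` (a `Pair`) is trivial: then `X` has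
no perfect central extension with kernel of order `p`.

For every such extension `π : L → X` with kernel `⟨c⟩` one constructs invariant characters `Chr` of the preimages of
`V i` which do not kill `c`.
-/

set_option autoImplicit false
set_option linter.style.haveILetI false

namespace Cfsg.Agent.H67.Chain

open Subgroup
open scoped commutatorElement

/-- All lifts of `x` and `y` to perfect central extensions with kernel of order `p` commute. -/
def LiftComm (p : ℕ) {X : Type*} [Group X] (x y : X) : Prop :=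
  ∀ (L : Type) [Group L] [Finite L] (π : L →* X) (c : L), PCov p π c → ∀ a b : L, π a = x → π b = y → a * b = b * a

section Fixed

variable {p : ℕ} {L X : Type*} [Group L] [Group X] {π : L →* X} {c : L}

theorem conj_eq (hd : PCov p π c) {a b : L} (h : π a = π b) (v : L) : a * v * a⁻¹ = b * v * b⁻¹ := by
  have h1 : π (b⁻¹ * a) = 1 := by rw [map_mul, map_inv, h, inv_mul_cancel]
  have h2 := hd.comm_of_pi h1 v
  have h3 : a = b * (b⁻¹ * a) := by group
  calc a * v * a⁻¹ = b * ((b⁻¹ * a) * v) * a⁻¹ := by group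
    _ = b * (v * (b⁻¹ * a)) * a⁻¹ := by rw [h2]
    _ = b * v * b⁻¹ := by group

theorem comm_eq (hd : PCov p π c) {a b a' b' : L} (h : π a = π a') (h' : π b = π b') : ⁅a, b⁆ = ⁅a', b'⁆ := by
  have key : ∀ x x' y : L, π x = π x' → ⁅x, y⁆ = ⁅x', y⁆ := by
    intro x x' y hx
    have h1 := conj_eq hd hx y
    rw [commutatorElement_def, commutatorElement_def, h1]
  rw [key a a' b h, ← commutatorElement_inv, key b b' a' h', commutatorElement_inv]

/-- `φ` is an invariant character of the preimage of `V` which does not kill `c`. -/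
structure Chr (π : L →* X) (c : L) (U T : Subgroup X) (V : Subgroup X) (φ : L → ℂˣ) : Prop where
  mul : ∀ x y, π x ∈ V → π y ∈ V → φ (x * y) = φ x * φ y
  ne : φ c ≠ 1
  conjU : ∀ u : L, π u ∈ U → ∀ w, π w ∈ V → φ (u * w * u⁻¹) = φ w
  conjT : ∀ t : L, π t ∈ T → ∀ w, π w ∈ V → φ (t * w * t⁻¹) = φ w

theorem Chr.one {U T V : Subgroup X} {φ : L → ℂˣ} (h : Chr π c U T V φ) : φ 1 = 1 := by
  have h1 := h.mul 1 1 (by rw [map_one]; exact one_mem _) (by rw [map_one]; exact one_mem _)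
  rw [mul_one] at h1
  exact (mul_eq_left (a := φ 1)).1 h1.symm

theorem Chr.inv {U T V : Subgroup X} {φ : L → ℂˣ} (h : Chr π c U T V φ) {x : L} (hx : π x ∈ V) :
    φ x⁻¹ = (φ x)⁻¹ := by
  have h1 := h.mul x⁻¹ x (by rw [map_inv]; exact inv_mem hx) hx
  rw [inv_mul_cancel, h.one] at h1
  exact eq_inv_of_mul_eq_one_left h1.symm

theorem Chr.pow {U T V : Subgroup X} {φ : L → ℂˣ} (h : Chr π c U T V φ) {x : L} (hx : π x ∈ V) (n : ℕ) :
    φ (x ^ n) = φ x ^ n := by
  induction n with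
  | zero => rw [pow_zero, pow_zero, h.one]
  | succ n ih =>
    rw [pow_succ, pow_succ, h.mul _ _ (by rw [map_pow]; exact pow_mem hx n) hx, ih]

/-- The step of the construction. -/
theorem step [Finite L] (hd : PCov p π c) {U V V' T : Subgroup X} {φ' : L → ℂˣ} [Fintype T]
    (hT : (Fintype.card T).Coprime p)
    (hVU : V ≤ U) (hTV : ∀ t ∈ T, ∀ v ∈ V, t * v * t⁻¹ ∈ V)
    (hTV' : ∀ t ∈ T, ∀ v ∈ V', t * v * t⁻¹ ∈ V')
    (hW' : Chr π c U T V' φ')
    (hcomm : ∀ v ∈ V, ∀ u ∈ U, ⁅v, u⁆ ∈ V')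
    (hV'V : V' ≤ V)
    (hcomm' : ∀ v u : L, π v ∈ V → π u ∈ U → φ' ⁅v, u⁆ = 1) :
    ∃ φ : L → ℂˣ, Chr π c U T V φ := by
  classical
  let VL : Subgroup L := V.comap π
  have memVL : ∀ x : L, x ∈ VL ↔ π x ∈ V := fun x => Iff.rfl
  let N : Subgroup L :=
    { carrier := {x | π x ∈ V' ∧ φ' x = 1}
      one_mem' := ⟨by rw [map_one]; exact one_mem _, hW'.one⟩
      mul_mem' := by
        rintro a b ⟨ha, ha'⟩ ⟨hb, hb'⟩
        exact ⟨by rw [map_mul]; exact mul_mem ha hb, by rw [hW'.mul a b ha hb, ha', hb', mul_one]⟩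
      inv_mem' := by
        rintro a ⟨ha, ha'⟩
        exact ⟨by rw [map_inv]; exact inv_mem ha, by rw [hW'.inv ha, ha', inv_one]⟩ }
  have memN : ∀ x, x ∈ N ↔ π x ∈ V' ∧ φ' x = 1 := fun x => Iff.rfl
  have hV'U : ∀ u ∈ U, ∀ v ∈ V', u * v * u⁻¹ ∈ V' := by
    intro u hu v hv
    have h1 := hcomm v (hV'V hv) u hu
    have h2 : u * v * u⁻¹ = ⁅v, u⁆⁻¹ * v := by rw [commutatorElement_def]; group
    rw [h2]
    exact mul_mem (inv_mem h1) hv
  have hn : (N.subgroupOf VL).Normal := by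
    constructor
    intro w hw g
    rw [mem_subgroupOf, memN] at hw ⊢
    refine ⟨?_, ?_⟩
    · push_cast
      rw [map_mul, map_mul, map_inv]
      exact hV'U _ (hVU g.2) _ hw.1
    · push_cast
      rw [hW'.conjU g (hVU g.2) w hw.1, hw.2]
  let A := ↥VL ⧸ N.subgroupOf VL
  let mk : ↥VL →* A := QuotientGroup.mk' (N.subgroupOf VL)
  have mk_one : ∀ x : ↥VL, mk x = 1 ↔ (x : L) ∈ N := by
    intro x
    show (QuotientGroup.mk x : A) = 1 ↔ _
    rw [QuotientGroup.eq_one_iff]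
    rfl
  have hcN : ∀ v u : L, π v ∈ V → π u ∈ U → ⁅v, u⁆ ∈ N := fun v u hv hu =>
    ⟨by rw [map_commutatorElement]; exact hcomm _ hv _ hu, hcomm' v u hv hu⟩
  have hcommA : ∀ a b : A, a * b = b * a := by
    intro a b
    obtain ⟨x, rfl⟩ := QuotientGroup.mk'_surjective _ a
    obtain ⟨y, rfl⟩ := QuotientGroup.mk'_surjective _ b
    show mk x * mk y = mk y * mk x
    have h1 : mk ⁅x, y⁆ = 1 := by
      rw [mk_one]
      exact hcN x y x.2 (hVU y.2)
    rw [map_commutatorElement, commutatorElement_eq_one_iff_mul_comm] at h1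
    exact h1
  letI : CommGroup A := { (inferInstance : Group A) with mul_comm := hcommA }
  have hcV : c ∈ VL := by
    rw [memVL, hd.pi_c]; exact one_mem _
  have hcV' : π c ∈ V' := by
    rw [hd.pi_c]; exact one_mem _
  have hc1 : mk ⟨c, hcV⟩ ≠ 1 := by
    rw [Ne, mk_one]
    exact fun h => hW'.ne h.2
  obtain ⟨χ, hχ⟩ := CommGroup.exists_apply_ne_one_of_hasEnoughRootsOfUnity A ℂ hc1
  -- lifts of the elements of `T`
  let s : X → L := Function.surjInv hd.surj
  have hs : ∀ x, π (s x) = x := Function.surjInv_eq hd.surj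
  have hcj : ∀ t : L, π t ∈ T → ∀ v ∈ VL, t * v * t⁻¹ ∈ VL := by
    intro t ht v hv
    rw [memVL, map_mul, map_mul, map_inv]
    exact hTV _ ht _ hv
  let cj : ∀ t : L, π t ∈ T → (↥VL →* ↥VL) := fun t ht =>
    { toFun := fun v => ⟨t * v * t⁻¹, hcj t ht v v.2⟩
      map_one' := by apply Subtype.ext; simp
      map_mul' := by
        intro x y
        apply Subtype.ext
        show t * (x * y) * t⁻¹ = t * x * t⁻¹ * (t * y * t⁻¹)
        group }
  have hsT : ∀ t : T, π (s t) ∈ T := fun t => by rw [hs]; exact t.2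
  let Φ : ↥VL →* ℂˣ := ∏ t : T, (χ.comp mk).comp (cj (s t) (hsT t))
  have hΦ : ∀ v : ↥VL, Φ v = ∏ t : T, χ (mk (cj (s t) (hsT t) v)) := by
    intro v
    show (∏ t : T, (χ.comp mk).comp (cj (s t) (hsT t))) v = _
    rw [MonoidHom.finsetProd_apply]
    rfl
  -- invariance
  have hΦinv : ∀ (t : L) (ht : π t ∈ T) (v : ↥VL), Φ (cj t ht v) = Φ v := by
    intro t ht v
    rw [hΦ, hΦ]
    refine Fintype.prod_equiv (Equiv.mulRight (⟨π t, ht⟩ : T)) _ _ ?_
    intro r
    congr 2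
    apply Subtype.ext
    show s r * (t * v * t⁻¹) * (s r)⁻¹ = s (r * π t : X) * v * (s (r * π t : X))⁻¹
    have h1 : π (s r * t) = π (s (r * π t : X)) := by rw [map_mul, hs, hs]
    rw [← conj_eq hd h1]
    group
  have hΦc : Φ ⟨c, hcV⟩ = χ (mk ⟨c, hcV⟩) ^ Fintype.card T := by
    rw [hΦ]
    have h1 : ∀ t : T, χ (mk (cj (s t) (hsT t) ⟨c, hcV⟩)) = χ (mk ⟨c, hcV⟩) := by
      intro t
      congr 2
      apply Subtype.ext
      show s t * c * (s t)⁻¹ = c
      rw [← hd.cen, mul_inv_cancel_right]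
    rw [Finset.prod_congr rfl fun t _ => h1 t, Finset.prod_const, Finset.card_univ]
  have hΦN : ∀ w : ↥VL, (w : L) ∈ N → Φ w = 1 := by
    intro w hw
    rw [hΦ]
    apply Finset.prod_eq_one
    intro t _
    have h2 : mk (cj (s t) (hsT t) w) = 1 := by
      rw [mk_one, memN]
      refine ⟨?_, ?_⟩
      · show π (s t * w * (s t)⁻¹) ∈ V'
        rw [map_mul, map_mul, map_inv]
        exact hTV' _ (hsT t) _ hw.1
      · show φ' (s t * w * (s t)⁻¹) = 1
        rw [hW'.conjT _ (hsT t) _ hw.1, hw.2]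
    rw [h2, map_one]
  let φ : L → ℂˣ := fun x => if h : π x ∈ V then Φ ⟨x, h⟩ else 1
  have hφ : ∀ x (h : π x ∈ V), φ x = Φ ⟨x, h⟩ := fun x h => dif_pos h
  have hconjV : ∀ g : L, (π g ∈ U) → ∀ w, π w ∈ V → π (g * w * g⁻¹) ∈ V := by
    intro g hg w hw
    have h2 : g * w * g⁻¹ = ⁅w, g⁆⁻¹ * w := by rw [commutatorElement_def]; group
    rw [h2, map_mul, map_inv]
    exact mul_mem (inv_mem (hV'V (hcN w g hw hg).1)) hw
  refine ⟨φ, ?_, ?_, ?_, ?_⟩
  · intro x y hx hy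
    have hxy : π (x * y) ∈ V := by rw [map_mul]; exact mul_mem hx hy
    rw [hφ x hx, hφ y hy, hφ _ hxy, ← map_mul]
    rfl
  · rw [hφ c hcV, hΦc]
    intro h
    have h1 : χ (mk ⟨c, hcV⟩) ^ p = 1 := by
      rw [← map_pow, ← map_pow]
      have : (⟨c, hcV⟩ : ↥VL) ^ p = 1 := Subtype.ext hd.pow
      rw [this, map_one, map_one]
    exact hχ (orderOf_eq_one_iff.1 (Nat.eq_one_of_dvd_coprimes hT (orderOf_dvd_of_pow_eq_one h)
      (orderOf_dvd_of_pow_eq_one h1)))
  · intro u hu w hw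
    have h2 : u * w * u⁻¹ = ⁅w, u⁆⁻¹ * w := by rw [commutatorElement_def]; group
    have h3 : ⁅w, u⁆⁻¹ ∈ N := inv_mem (hcN w u hw hu)
    have h4 := hconjV u hu w hw
    have h5 : (⟨u * w * u⁻¹, h4⟩ : ↥VL) = ⟨⁅w, u⁆⁻¹, hV'V h3.1⟩ * ⟨w, hw⟩ := Subtype.ext h2
    rw [hφ w hw, hφ _ h4, h5, map_mul, hΦN _ h3, one_mul]
  · intro t ht w hw
    have h4 : π (t * w * t⁻¹) ∈ V := hcj t ht w hw
    rw [hφ w hw, hφ _ h4, ← hΦinv t ht ⟨w, hw⟩]
    rfl

end Fixed

/-- An invariant pairing `V / V' × U → ℂˣ`. -/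
structure Pair (p : ℕ) {X : Type*} [Group X] (U T V V' : Subgroup X) (F : X → X → ℂˣ) : Prop where
  mul_left : ∀ v ∈ V, ∀ w ∈ V, ∀ u ∈ U, F (v * w) u = F v u * F w u
  mul_right : ∀ v ∈ V, ∀ u ∈ U, ∀ w ∈ U, F v (u * w) = F v u * F v w
  conj : ∀ t ∈ T, ∀ v ∈ V, ∀ u ∈ U, F (t * v * t⁻¹) (t * u * t⁻¹) = F v u
  one : ∀ v ∈ V', ∀ u ∈ U, F v u = 1
  symm : ∀ v ∈ V, ∀ u ∈ V, F v u = (F u v)⁻¹
  alt : ∀ v ∈ V, F v v = 1
  lift : ∀ v ∈ V, ∀ u ∈ U, LiftComm p v u → F v u = 1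

namespace Pair

variable {p : ℕ} {X : Type*} [Group X] {U T V V' : Subgroup X} {F : X → X → ℂˣ}

theorem one_left (h : Pair p U T V V' F) {u : X} (hu : u ∈ U) : F 1 u = 1 := by
  have h3 := h.mul_left 1 (one_mem _) 1 (one_mem _) u hu
  rw [mul_one] at h3
  exact (mul_eq_left (a := F 1 u)).1 h3.symm

theorem one_right (h : Pair p U T V V' F) {v : X} (hv : v ∈ V) : F v 1 = 1 := by
  have h3 := h.mul_right v hv 1 (one_mem _) 1 (one_mem _)
  rw [mul_one] at h3
  exact (mul_eq_left (a := F v 1)).1 h3.symm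

theorem inv_left (h : Pair p U T V V' F) {v u : X} (hv : v ∈ V) (hu : u ∈ U) : F v⁻¹ u = (F v u)⁻¹ := by
  have h1 := h.mul_left v hv v⁻¹ (inv_mem hv) u hu
  rw [mul_inv_cancel, h.one_left hu] at h1
  exact (inv_eq_of_mul_eq_one_right h1.symm).symm

theorem inv_right (h : Pair p U T V V' F) {v u : X} (hv : v ∈ V) (hu : u ∈ U) : F v u⁻¹ = (F v u)⁻¹ := by
  have h1 := h.mul_right v hv u hu u⁻¹ (inv_mem hu)
  rw [mul_inv_cancel, h.one_right hv] at h1
  exact (inv_eq_of_mul_eq_one_right h1.symm).symm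

/-- commutators in the second variable -/
theorem comm (h : Pair p U T V V' F) {v x y : X} (hv : v ∈ V) (hx : x ∈ U) (hy : y ∈ U) : F v ⁅x, y⁆ = 1 := by
  rw [commutatorElement_def, h.mul_right v hv _ (mul_mem (mul_mem hx hy) (inv_mem hx)) _ (inv_mem hy),
    h.mul_right v hv _ (mul_mem hx hy) _ (inv_mem hx), h.mul_right v hv _ hx _ hy, h.inv_right hv hx,
    h.inv_right hv hy, mul_comm (F v x) (F v y), mul_inv_cancel_right, mul_inv_cancel]

end Pair

section Main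

variable {p : ℕ} {X : Type*} [Group X]

/-- One step, with the pairing. -/
theorem step' {L : Type} [Group L] [Finite L] {π : L →* X} {c : L} (hd : PCov p π c)
    {U V V' T : Subgroup X} {φ' : L → ℂˣ} [Finite T] (hT : (Nat.card T).Coprime p)
    (hVU : V ≤ U) (hTV : ∀ t ∈ T, ∀ v ∈ V, t * v * t⁻¹ ∈ V)
    (hTV' : ∀ t ∈ T, ∀ v ∈ V', t * v * t⁻¹ ∈ V')
    (hW' : Chr π c U T V' φ') (hV'V : V' ≤ V)
    (hcomm : ∀ v ∈ V, ∀ u ∈ U, ⁅v, u⁆ ∈ V')
    (hpair : ∀ F : X → X → ℂˣ, Pair p U T V V' F → ∀ v ∈ V, ∀ u ∈ U, F v u = 1) :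
    ∃ φ : L → ℂˣ, Chr π c U T V φ := by
  classical
  haveI : Fintype T := Fintype.ofFinite T
  let s : X → L := Function.surjInv hd.surj
  have hs : ∀ x, π (s x) = x := Function.surjInv_eq hd.surj
  let F : X → X → ℂˣ := fun v u => φ' ⁅s v, s u⁆
  have hF : ∀ (a b : L), φ' ⁅a, b⁆ = F (π a) (π b) := by
    intro a b
    show φ' ⁅a, b⁆ = φ' ⁅s (π a), s (π b)⁆
    rw [comm_eq hd (hs (π a)).symm (hs (π b)).symm]
  have hcomm' : ∀ a b : L, π a ∈ V → π b ∈ U → π ⁅a, b⁆ ∈ V' := by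
    intro a b ha hb
    rw [map_commutatorElement]
    exact hcomm _ ha _ hb
  have hP : Pair p U T V V' F := by
    refine ⟨?_, ?_, ?_, ?_, ?_, ?_, ?_⟩
    · intro v hv w hw u hu
      obtain ⟨v, rfl⟩ := hd.surj v
      obtain ⟨w, rfl⟩ := hd.surj w
      obtain ⟨u, rfl⟩ := hd.surj u
      rw [← map_mul, ← hF, ← hF, ← hF]
      have e : ⁅v * w, u⁆ = v * ⁅w, u⁆ * v⁻¹ * ⁅v, u⁆ := by
        simp only [commutatorElement_def]; group
      have h1 : π (v * ⁅w, u⁆ * v⁻¹) ∈ V' := by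
        have h2 : v * ⁅w, u⁆ * v⁻¹ = ⁅v * w, u⁆ * ⁅v, u⁆⁻¹ := by rw [e, mul_inv_cancel_right]
        rw [h2, map_mul, map_inv]
        exact mul_mem (hcomm' _ _ (by rw [map_mul]; exact mul_mem hv hw) hu) (inv_mem (hcomm' _ _ hv hu))
      rw [e, hW'.mul _ _ h1 (hcomm' _ _ hv hu), hW'.conjU v (hVU hv) _ (hcomm' _ _ hw hu), mul_comm]
    · intro v hv u hu w hw
      obtain ⟨v, rfl⟩ := hd.surj v
      obtain ⟨w, rfl⟩ := hd.surj w
      obtain ⟨u, rfl⟩ := hd.surj u
      rw [← map_mul, ← hF, ← hF, ← hF]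
      have e : ⁅v, u * w⁆ = ⁅v, u⁆ * (u * ⁅v, w⁆ * u⁻¹) := by
        simp only [commutatorElement_def]; group
      have h1 : π (u * ⁅v, w⁆ * u⁻¹) ∈ V' := by
        have h2 : u * ⁅v, w⁆ * u⁻¹ = ⁅v, u⁆⁻¹ * ⁅v, u * w⁆ := by rw [e, inv_mul_cancel_left]
        rw [h2, map_mul, map_inv]
        exact mul_mem (inv_mem (hcomm' _ _ hv hu)) (hcomm' _ _ hv (by rw [map_mul]; exact mul_mem hu hw))
      rw [e, hW'.mul _ _ (hcomm' _ _ hv hu) h1, hW'.conjU u hu _ (hcomm' _ _ hv hw)]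
    · intro t ht v hv u hu
      obtain ⟨v, rfl⟩ := hd.surj v
      obtain ⟨t, rfl⟩ := hd.surj t
      obtain ⟨u, rfl⟩ := hd.surj u
      have e1 : π t * π v * (π t)⁻¹ = π (t * v * t⁻¹) := by simp only [map_mul, map_inv]
      have e2 : π t * π u * (π t)⁻¹ = π (t * u * t⁻¹) := by simp only [map_mul, map_inv]
      rw [e1, e2, ← hF, ← hF, ← hW'.conjT t ht ⁅v, u⁆ (hcomm' _ _ hv hu)]
      congr 1
      simp only [commutatorElement_def]; group
    · intro v hv u hu
      obtain ⟨v, rfl⟩ := hd.surj v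
      obtain ⟨u, rfl⟩ := hd.surj u
      rw [← hF]
      have e : ⁅v, u⁆ = v * (u * v⁻¹ * u⁻¹) := by simp only [commutatorElement_def]; group
      have hvi : π v⁻¹ ∈ V' := by rw [map_inv]; exact inv_mem hv
      have h1 : π (u * v⁻¹ * u⁻¹) ∈ V' := by
        have h2 : u * v⁻¹ * u⁻¹ = v⁻¹ * ⁅v, u⁆ := by rw [e, inv_mul_cancel_left]
        rw [h2, map_mul]
        exact mul_mem hvi (hcomm' _ _ (hV'V hv) hu)
      rw [e, hW'.mul _ _ hv h1, hW'.conjU u hu _ hvi, hW'.inv hv, mul_inv_cancel]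
    · intro v hv u hu
      obtain ⟨v, rfl⟩ := hd.surj v
      obtain ⟨u, rfl⟩ := hd.surj u
      rw [← hF, ← hF, ← commutatorElement_inv u v, hW'.inv (hcomm' u v hu (hVU hv))]
    · intro v hv
      obtain ⟨v, rfl⟩ := hd.surj v
      rw [← hF, commutatorElement_self, hW'.one]
    · intro v hv u hu h
      obtain ⟨v, rfl⟩ := hd.surj v
      obtain ⟨u, rfl⟩ := hd.surj u
      rw [← hF]
      have h1 := h L π c hd v u rfl rfl
      rw [commutatorElement_eq_one_iff_mul_comm.2 h1, hW'.one]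
  have hall := hpair F hP
  refine step hd (by rw [← Nat.card_eq_fintype_card]; exact hT) hVU hTV hTV' hW' hcomm hV'V ?_
  intro v u hv hu
  rw [hF]
  exact hall _ hv _ hu

/-- The chain theorem. -/
theorem exists_chr_of_chain {L : Type} [Group L] [Finite L] {π : L →* X} {c : L} (hd : PCov p π c)
    {U T : Subgroup X} [Finite T] (hT : (Nat.card T).Coprime p) (V : ℕ → Subgroup X) (n : ℕ)
    (hV0 : V 0 = ⊥) (hVU : ∀ i ≤ n, V i ≤ U) (hmono : ∀ i < n, V i ≤ V (i + 1))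
    (hTV : ∀ i ≤ n, ∀ t ∈ T, ∀ v ∈ V i, t * v * t⁻¹ ∈ V i)
    (hcomm : ∀ i < n, ∀ v ∈ V (i + 1), ∀ u ∈ U, ⁅v, u⁆ ∈ V i)
    (hpair : ∀ i < n, ∀ F : X → X → ℂˣ, Pair p U T (V (i + 1)) (V i) F →
      ∀ v ∈ V (i + 1), ∀ u ∈ U, F v u = 1) :
    ∃ φ : L → ℂˣ, Chr π c U T (V n) φ := by
  have key : ∀ i ≤ n, ∃ φ : L → ℂˣ, Chr π c U T (V i) φ := by
    intro i
    induction i with
    | zero =>
      intro _
      classical
      -- a faithful character of `⟨c⟩`
      have hcc : ∀ x y : zpowers c, x * y = y * x := fun x y => Subtype.ext (by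
        obtain ⟨k, hk⟩ := mem_zpowers_iff.1 x.2
        obtain ⟨l, hl⟩ := mem_zpowers_iff.1 y.2
        show (x : L) * y = y * x
        rw [← hk, ← hl, ← zpow_add, ← zpow_add, add_comm])
      letI : CommGroup (zpowers c) := { (inferInstance : Group (zpowers c)) with mul_comm := hcc }
      have h1 : (⟨c, mem_zpowers c⟩ : zpowers c) ≠ 1 := fun h => hd.ne (congrArg Subtype.val h)
      obtain ⟨χ, hχ⟩ := CommGroup.exists_apply_ne_one_of_hasEnoughRootsOfUnity (zpowers c) ℂ h1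
      have hmem : ∀ x : L, π x ∈ V 0 ↔ x ∈ zpowers c := by
        intro x
        rw [hV0, mem_bot, hd.ker]
      let φ : L → ℂˣ := fun x => if h : x ∈ zpowers c then χ ⟨x, h⟩ else 1
      have hφ : ∀ x (h : x ∈ zpowers c), φ x = χ ⟨x, h⟩ := fun x h => dif_pos h
      have hconj : ∀ g w, π w ∈ V 0 → φ (g * w * g⁻¹) = φ w := by
        intro g w hw
        have h2 : π w = 1 := by rwa [hV0, mem_bot] at hw
        have h3 := hd.comm_of_pi h2 g
        rw [← h3, mul_inv_cancel_right]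
      refine ⟨φ, ?_, ?_, fun u _ w hw => hconj u w hw, fun u _ w hw => hconj u w hw⟩
      · intro x y hx hy
        rw [hmem] at hx hy
        rw [hφ x hx, hφ y hy, hφ _ (mul_mem hx hy), ← map_mul]
        rfl
      · rw [hφ c (mem_zpowers c)]
        exact hχ
    | succ i ih =>
      intro hi
      obtain ⟨φ', hW'⟩ := ih (by omega)
      exact step' hd hT (hVU _ hi) (hTV _ hi) (hTV _ (by omega)) hW' (hmono i (by omega))
        (hcomm i (by omega)) (hpair i (by omega))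
  exact key n le_rfl

/-- **The chain criterion.** -/
theorem noPCov_of_chain (hp : p.Prime) {U T : Subgroup X} [Finite T] (hU : ¬ p ∣ U.index)
    (hT : (Nat.card T).Coprime p) (V : ℕ → Subgroup X) (n : ℕ)
    (hV0 : V 0 = ⊥) (hVn : V n = U) (hVU : ∀ i ≤ n, V i ≤ U) (hmono : ∀ i < n, V i ≤ V (i + 1))
    (hTV : ∀ i ≤ n, ∀ t ∈ T, ∀ v ∈ V i, t * v * t⁻¹ ∈ V i)
    (hcomm : ∀ i < n, ∀ v ∈ V (i + 1), ∀ u ∈ U, ⁅v, u⁆ ∈ V i)
    (hpair : ∀ i < n, ∀ F : X → X → ℂˣ, Pair p U T (V (i + 1)) (V i) F →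
      ∀ v ∈ V (i + 1), ∀ u ∈ U, F v u = 1) : NoPCov p X := by
  intro L _ _ π c hd
  obtain ⟨φ, hφ⟩ := exists_chr_of_chain hd hT V n hV0 hVU hmono hTV hcomm hpair
  rw [hVn] at hφ
  have hcP : c ∈ U.comap π := by
    rw [mem_comap, hd.pi_c]; exact one_mem _
  let ψ : ↥(U.comap π) →* ℂˣ :=
    { toFun := fun x => φ x
      map_one' := hφ.one
      map_mul' := fun x y => hφ.mul x y x.2 y.2 }
  have h1 := hd.hom_eq_one hp hcP (by rwa [index_comap_of_surjective _ hd.surj]) ψ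
  exact hφ.ne h1

end Main

end Cfsg.Agent.H67.Chain
end

-- part: H67/FieldPair
section
/-!
# Biadditive maps on finite fields invariant under a pair of scalars

`pair_eq_one`: `K` a finite field of characteristic `p`, `f : K → K → A` biadditive with
`f (α x) (β y) = f x y`. If `α ^ p ^ k * β ≠ 1` for all `k` then `f = 1`.
-/

set_option autoImplicit false

namespace Cfsg.Agent.H67.FieldPair

open Polynomial

theorem exists_pow_of_isConjRoot {p : ℕ} [Fact p.Prime] {K : Type*} [Field K] [Finite K] [Algebra (ZMod p) K]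
    {α γ : K} (h : IsConjRoot (ZMod p) α γ) : ∃ k : ℕ, γ = α ^ p ^ k := by
  obtain ⟨σ, hσ⟩ := h.exists_algEquiv
  obtain ⟨⟨n, hn⟩, hn'⟩ := (FiniteField.bijective_frobeniusAlgHom_pow (ZMod p) K).2 σ.symm.toAlgHom
  refine ⟨n, ?_⟩
  have h1 : γ = σ.symm α := by rw [← hσ, AlgEquiv.symm_apply_apply]
  have h2 : ∀ k : ℕ, ∀ x : K, (FiniteField.frobeniusAlgHom (ZMod p) K ^ k) x = x ^ p ^ k := by
    intro k
    induction k with
    | zero => intro x; simp
    | succ k ih =>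
      intro x
      rw [pow_succ, AlgHom.mul_apply, ih, FiniteField.frobeniusAlgHom_apply, ← pow_mul, ZMod.card, ← pow_succ']
  rw [h1, ← h2]
  exact (DFunLike.congr_fun hn' α).symm

variable {p : ℕ} [Fact p.Prime] {K : Type*} [Field K] [Finite K] [CharP K p] {A : Type*} [CommGroup A]

theorem pair_eq_one {f : K → K → A} (hl : ∀ x x' y, f (x + x') y = f x y * f x' y)
    (hr : ∀ x y y', f x (y + y') = f x y * f x y') {α β : K} (h : ∀ x y, f (α * x) (β * y) = f x y)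
    (hne : ∀ k : ℕ, α ^ p ^ k * β ≠ 1) (x y : K) : f x y = 1 := by
  have h0l : ∀ y, f 0 y = 1 := by
    intro y
    have h3 := hl 0 0 y
    rw [add_zero] at h3
    exact (mul_eq_left (a := f 0 y)).1 h3.symm
  have h0r : ∀ x, f x 0 = 1 := by
    intro x
    have h3 := hr x 0 0
    rw [add_zero] at h3
    exact (mul_eq_left (a := f x 0)).1 h3.symm
  by_cases hβ : β = 0
  · rw [← h, hβ, zero_mul, h0r]
  let _ : Algebra (ZMod p) K := ZMod.algebra K p
  have hadj : ∀ x y, f (α * x) y = f x (β⁻¹ * y) := by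
    intro x y
    rw [← h x (β⁻¹ * y), mul_inv_cancel_left₀ hβ]
  have hadjn : ∀ (n : ℕ) x y, f (α ^ n * x) y = f x (β⁻¹ ^ n * y) := by
    intro n
    induction n with
    | zero => intro x y; simp
    | succ n ih =>
      intro x y
      rw [pow_succ, mul_assoc, ih, hadj, ← mul_assoc, ← pow_succ']
  have hnl : ∀ (n : ℕ) x y, f ((n : K) * x) y = f x y ^ n := by
    intro n
    induction n with
    | zero => intro x y; rw [Nat.cast_zero, zero_mul, h0l, pow_zero]
    | succ n ih => intro x y; rw [Nat.cast_succ, add_mul, one_mul, hl, ih, pow_succ]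
  have hnr : ∀ (n : ℕ) x y, f x ((n : K) * y) = f x y ^ n := by
    intro n
    induction n with
    | zero => intro x y; rw [Nat.cast_zero, zero_mul, h0r, pow_zero]
    | succ n ih => intro x y; rw [Nat.cast_succ, add_mul, one_mul, hr, ih, pow_succ]
  have key : ∀ (Q : (ZMod p)[X]) x y, f (aeval α Q * x) y = f x (aeval β⁻¹ Q * y) := by
    intro Q
    induction Q using Polynomial.induction_on' with
    | add P Q hP hQ =>
      intro x y
      rw [map_add, map_add, add_mul, add_mul, hl, hr, hP, hQ]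
    | monomial n c =>
      intro x y
      have h1 : algebraMap (ZMod p) K c = ((c.val : ℕ) : K) := by
        conv_lhs => rw [← ZMod.natCast_zmod_val c]
        rw [map_natCast]
      rw [aeval_monomial, aeval_monomial, h1, mul_assoc, mul_assoc, hnl, hnr, hadjn]
  by_cases h1 : aeval β⁻¹ (minpoly (ZMod p) α) = 0
  · exfalso
    have hint : IsIntegral (ZMod p) α := Algebra.IsIntegral.isIntegral α
    have h2 : IsConjRoot (ZMod p) α β⁻¹ := isConjRoot_of_aeval_eq_zero hint h1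
    obtain ⟨k, hk⟩ := exists_pow_of_isConjRoot h2
    exact hne k (by rw [← hk, inv_mul_cancel₀ hβ])
  · have h2 := key (minpoly (ZMod p) α) x ((aeval β⁻¹ (minpoly (ZMod p) α))⁻¹ * y)
    rw [minpoly.aeval, zero_mul, h0l, mul_inv_cancel_left₀ h1] at h2
    exact h2.symm

end Cfsg.Agent.H67.FieldPair
end
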