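import Mathlib
import Cfsg.Agent.H67.PCov
import Cfsg.Agent.S0331
import Cfsg.Agent.S1162
import Cfsg.Agent.S1163
set_option linter.all false

/-!
# Suzuki groups: odd part of the Schur multiplier, perfectness

* `sylow_cyclic`: the Sylow `p`-subgroups of `Lie.Sz F (2 ^ (m + 1))`, `p` odd, are cyclic.
* `noPCov_odd`: no perfect central extensions with kernel of odd prime order.
* `perfect_sz`, `center_sz`.
-/

set_option autoImplicit false

namespace Cfsg.Agent.H67.SzOdd

open Cfsg.Agent.LieRecognition.SzMatrix Cfsg.Agent.LieExceptional.CyclicSylow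
open scoped commutatorElement

variable {F : Type*} [Field F] [Fintype F] {m : ℕ}

/-- For every odd prime `p` the Sylow `p`-subgroups of the Suzuki group are cyclic. -/
theorem sylow_cyclic (hm : 1 ≤ m) (hF : Fintype.card F = 2 ^ (2 * m + 1)) {p : ℕ} [Fact p.Prime] (hp : p ≠ 2)
    (P : Sylow p ↥(Cfsg.Lie.Sz F (2 ^ (m + 1)))) : IsCyclic P := by
  have hpp : p.Prime := Fact.out
  have hcard := (Cfsg.Agent.S1163.result hm hF).1
  have H := good hF
  rw [← hF] at hcard
  set q := Fintype.card F with hq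
  have hcard' : Nat.card ↥(Cfsg.Lie.Sz F (2 ^ (m + 1))) = q ^ 2 * (q ^ 2 + 1) * (q - 1) := by
    rw [hcard]; ring
  have hq2 : 2 ≤ q := by
    rw [hF]
    calc 2 = 2 ^ 1 := rfl
      _ ≤ 2 ^ (2 * m + 1) := Nat.pow_le_pow_right (by norm_num) (by omega)
  have hpq : ¬ p ∣ q := by
    intro h
    rw [hF] at h
    exact hp ((Nat.prime_dvd_prime_iff_eq hpp Nat.prime_two).1 (hpp.dvd_of_dvd_pow h))
  have hfin : Finite ↥(Cfsg.Lie.Sz F (2 ^ (m + 1))) := inferInstance
  by_cases h1 : p ∣ q - 1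
  · -- the torus
    let f : Fˣ →* ↥(Cfsg.Lie.Sz F (2 ^ (m + 1))) :=
      { toFun := fun k => H.d k
        map_one' := H.d_one
        map_mul' := fun k l => (H.d_mul k l).symm }
    have hf : Function.Injective f := fun k l h => H.d_inj h
    refine isCyclic_sylow_of_hom f hf ?_ P
    rw [hcard', Nat.card_units, Nat.card_eq_fintype_card, ← hq]
    exact Cfsg.Agent.S0331.fact_aux hp hq2 h1
  · by_cases h2 : p ∣ q ^ 2 + 1
    · -- Sylow subgroups of `GL_4(q)`
      refine isCyclic_of_isPGroup_of_hom_GL (F := F) (n := 4) (p := p) ?_ ?_ P.isPGroup'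
        ((Subgroup.subtype _).comp (Subgroup.subtype _)) ?_
      · rw [Nat.card_eq_fintype_card]; exact hpq
      · rw [Nat.card_eq_fintype_card]; exact Cfsg.Agent.S0331.order_aux hp hq2 h2
      · exact (Subgroup.subtype_injective _).comp (Subgroup.subtype_injective _)
    · -- `p` does not divide the order
      have h3 : ¬ p ∣ Nat.card ↥(Cfsg.Lie.Sz F (2 ^ (m + 1))) := by
        rw [hcard']
        intro h
        rcases hpp.dvd_mul.1 h with h | h
        · rcases hpp.dvd_mul.1 h with h | h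
          · exact hpq (hpp.dvd_of_dvd_pow h)
          · exact h2 h
        · exact h1 h
      have h4 : Nat.card P = 1 := by
        rw [Sylow.card_eq_multiplicity, Nat.factorization_eq_zero_of_not_dvd h3, pow_zero]
      have := (Nat.card_eq_one_iff_unique.1 h4).1
      infer_instance

/-- The odd part of the multiplier is trivial. -/
theorem noPCov_odd (hm : 1 ≤ m) (hF : Fintype.card F = 2 ^ (2 * m + 1)) {p : ℕ} (hpp : p.Prime) (hp : p ≠ 2) :
    NoPCov p ↥(Cfsg.Lie.Sz F (2 ^ (m + 1))) := by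
  have := Fact.mk hpp
  exact NoPCov.of_cyclic_sylow hpp fun P => sylow_cyclic hm hF hp P

theorem not_commute (hF : Fintype.card F = 2 ^ (2 * m + 1)) :
    ∃ x y : ↥(Cfsg.Lie.Sz F (2 ^ (m + 1))), x * y ≠ y * x := by
  have H := good hF
  refine ⟨H.w, H.u 1 0, fun h => ?_⟩
  have h2 : (H.w * H.u 1 0).1.1 = (H.u 1 0 * H.w).1.1 := by rw [h]
  have h3 : (J F * Umat (theta hF) 1 0) = (Umat (theta hF) 1 0 * J F) := h2
  have h4 := congrFun (congrFun h3 0) 0
  simp [J, Umat, Matrix.mul_apply, Fin.sum_univ_succ] at h4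

theorem perfect_sz (hm : 1 ≤ m) (hF : Fintype.card F = 2 ^ (2 * m + 1)) :
    commutator ↥(Cfsg.Lie.Sz F (2 ^ (m + 1))) = ⊤ := by
  have hs : IsSimpleGroup ↥(Cfsg.Lie.Sz F (2 ^ (m + 1))) := Cfsg.Agent.S1162.result hm hF
  rcases hs.eq_bot_or_eq_top_of_normal (commutator ↥(Cfsg.Lie.Sz F (2 ^ (m + 1)))) inferInstance with h | h
  · exfalso
    obtain ⟨x, y, hxy⟩ := not_commute hF
    have h2 : ⁅x, y⁆ ∈ commutator ↥(Cfsg.Lie.Sz F (2 ^ (m + 1))) :=
      Subgroup.commutator_mem_commutator (Subgroup.mem_top x) (Subgroup.mem_top y)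
    rw [h, Subgroup.mem_bot, commutatorElement_eq_one_iff_mul_comm] at h2
    exact hxy h2
  · exact h

theorem center_sz (hm : 1 ≤ m) (hF : Fintype.card F = 2 ^ (2 * m + 1)) :
    Subgroup.center ↥(Cfsg.Lie.Sz F (2 ^ (m + 1))) = ⊥ := by
  have hs : IsSimpleGroup ↥(Cfsg.Lie.Sz F (2 ^ (m + 1))) := Cfsg.Agent.S1162.result hm hF
  rcases hs.eq_bot_or_eq_top_of_normal (Subgroup.center ↥(Cfsg.Lie.Sz F (2 ^ (m + 1)))) inferInstance with h | h
  · exact h
  · exfalso
    obtain ⟨x, y, hxy⟩ := not_commute hF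
    have h1 : y ∈ Subgroup.center ↥(Cfsg.Lie.Sz F (2 ^ (m + 1))) := by rw [h]; trivial
    exact hxy (Subgroup.mem_center_iff.1 h1 x)

end Cfsg.Agent.H67.SzOdd
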