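import Mathlib
import Cfsg.Agent.H67.Cross
import Cfsg.Agent.H67.SzOdd
import Cfsg.Agent.S0262
import Cfsg.Agent.AschCrit.RankOneTypes
set_option linter.all false

/-!
# Rank one groups in characteristic two: type, torus, central extensions

`RkOne A T w`: `P` is generated by a 2-group `A` and its conjugate `A ^ w`, `w` an involution, `T` of odd order normalises
`A` and is normalised by `w`, and every `1 ≠ x ∈ A ^ w` lies in `A w T A`; `A` contains two commuting involutions.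

* `RkOne.main`: if `|A| = q` or `q ^ 2`, where `q - 1` is the number of involutions of `A`, then `|T| = q - 1`, and `P` has
  no central extensions by groups of order `r` generated by `2`-elements, `r` an odd prime.
-/

set_option autoImplicit false
set_option linter.style.haveILetI false

namespace Cfsg.Agent.H67.RankOneId

open Cfsg.Agent.H67.Cross Cfsg.Agent.LieRecognition.RankOneAbstract Cfsg.Agent.SuzukiRankOne.PSUModel
open Cfsg MulAction Subgroup
open scoped commutatorElement Pointwise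

universe u v

/-! ### `NoCE` -/

/-- change of universe -/
theorem noCE_false {p r : ℕ} {P : Type v} [Group P] (h : NoCE p r P) {H : Type u} [Group H] [Finite H]
    {f : H →* P} {c : H} (hf : Function.Surjective f) (hc : c ≠ 1) (hcr : c ^ r = 1) (hcen : ∀ x, c * x = x * c)
    (hker : ∀ x, f x = 1 ↔ x ∈ Subgroup.zpowers c)
    (hgen : Subgroup.closure {x : H | ∃ k : ℕ, x ^ p ^ k = 1} = ⊤) : False := by
  have : Small.{0} H := by
    obtain ⟨n, ⟨e⟩⟩ := Finite.exists_equiv_fin H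
    exact small_map e
  let e : H ≃* Shrink.{0} H := (Shrink.mulEquiv (α := H)).symm
  have : Finite (Shrink.{0} H) := Finite.of_equiv H e.toEquiv
  refine h (Shrink.{0} H) (f.comp e.symm.toMonoidHom) (e c) (hf.comp e.symm.surjective)
    (fun h1 => hc (by simpa using congrArg e.symm h1)) (by rw [← map_pow, hcr, map_one]) ?_ ?_ ?_
  · intro x
    have := congrArg e (hcen (e.symm x))
    simpa using this
  · intro x
    show f (e.symm x) = 1 ↔ _
    rw [hker, mem_zpowers_iff, mem_zpowers_iff]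
    refine exists_congr fun k => ?_
    constructor
    · intro h2
      have := congrArg e h2
      simpa using this
    · intro h2
      have := congrArg e.symm h2
      simpa using this
  · have h1 : (Subgroup.closure {x : H | ∃ k : ℕ, x ^ p ^ k = 1}).map e.toMonoidHom = ⊤ := by
      rw [hgen]; exact Subgroup.map_top_of_surjective _ e.surjective
    rw [← h1, MonoidHom.map_closure]
    congr 1
    ext x
    constructor
    · rintro ⟨k, hk⟩
      refine ⟨e.symm x, ⟨k, ?_⟩, by simp⟩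
      rw [← map_pow, hk, map_one]
    · rintro ⟨y, ⟨k, hk⟩, rfl⟩
      refine ⟨k, ?_⟩
      show (e y) ^ p ^ k = 1
      rw [← map_pow, hk, map_one]

/-- The kernel of a central extension generated by `p`-elements has order prime to `r`. -/
theorem noCE_not_dvd_card_ker {p r : ℕ} (hr : r.Prime) {P : Type v} [Group P] (h : NoCE p r P) {K : Type u}
    [Group K] [Finite K] (hK : Subgroup.closure {x : K | ∃ k : ℕ, x ^ p ^ k = 1} = ⊤) {f : K →* P}
    (hf : Function.Surjective f) (hZ : f.ker ≤ center K) : ¬ r ∣ Nat.card f.ker := by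
  classical
  intro hdvd
  have := Fact.mk hr
  obtain ⟨Z₀, hle, hcard⟩ := exists_index_prime hr hZ hdvd
  have hcomm : ∀ a ∈ f.ker, ∀ b : K, b * a = a * b := fun a ha b => mem_center_iff.1 (hZ ha) b
  have hn : Z₀.Normal := ⟨fun n hn g => by
    rw [hcomm n (hle hn) g, mul_inv_cancel_right]; exact hn⟩
  let q := QuotientGroup.mk' Z₀
  have hq : Function.Surjective q := QuotientGroup.mk'_surjective _
  let π : K ⧸ Z₀ →* P := QuotientGroup.lift Z₀ f hle
  have hπ : ∀ x, π (q x) = f x := fun _ => rfl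
  have hlt : ∃ c ∈ f.ker, c ∉ Z₀ := by
    by_contra hcon
    push Not at hcon
    have : f.ker = Z₀ := le_antisymm hcon hle
    rw [this] at hcard
    have := Nat.card_pos (α := Z₀)
    have := hr.one_lt
    nlinarith
  obtain ⟨c, hc, hc0⟩ := hlt
  have hq1 : ∀ x, q x = 1 ↔ x ∈ Z₀ := fun x => QuotientGroup.eq_one_iff x
  have hkc : Nat.card π.ker = r := by
    have h0 : π.ker = f.ker.map q := by
      ext y
      obtain ⟨x, rfl⟩ := hq y
      rw [MonoidHom.mem_ker, hπ]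
      constructor
      · intro hx; exact ⟨x, hx, rfl⟩
      · rintro ⟨z, hz, hzx⟩
        rw [← hπ, ← hzx, hπ]; exact hz
    have h1 : Nat.card (f.ker.map q) * Nat.card Z₀ = Nat.card f.ker := by
      have h2 : Nat.card (f.ker.map q) = (Z₀.subgroupOf f.ker).index := by
        have h3 : f.ker.map q = (q.comp f.ker.subtype).range := by
          rw [MonoidHom.range_comp, Subgroup.range_subtype]
        rw [h3, ← Subgroup.index_ker]
        congr 1
        ext x
        rw [MonoidHom.mem_ker, MonoidHom.comp_apply, hq1, mem_subgroupOf]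
        rfl
      rw [h2, mul_comm, ← Nat.card_congr (subgroupOfEquivOfLe hle).toEquiv]
      exact (Z₀.subgroupOf f.ker).card_mul_index
    rw [h0]
    have := Nat.card_pos (α := Z₀)
    exact Nat.eq_of_mul_eq_mul_right this (h1.trans hcard)
  have hck : π (q c) = 1 := hc
  have hc1 : q c ≠ 1 := fun h => hc0 ((hq1 c).1 h)
  have hcp : (q c) ^ r = 1 := by
    have h1 : (⟨q c, hck⟩ : π.ker) ^ Nat.card π.ker = 1 := pow_card_eq_one'
    rw [hkc] at h1
    exact congrArg Subtype.val h1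
  have hker : zpowers (q c) = π.ker := by
    refine Subgroup.eq_of_le_of_card_ge ?_ ?_
    · rw [zpowers_le]; exact hck
    · rw [hkc, Nat.card_zpowers, orderOf_eq_prime hcp hc1]
  refine noCE_false h (H := K ⧸ Z₀) (f := π) (c := q c) ?_ hc1 hcp ?_ ?_ ?_
  · exact fun y => (hf y).imp' q fun x hx => hx
  · intro x
    obtain ⟨x, rfl⟩ := hq x
    rw [← map_mul, ← map_mul, hcomm c hc x]
  · intro x
    rw [hker]
    rfl
  · have h1 : (Subgroup.closure {x : K | ∃ k : ℕ, x ^ p ^ k = 1}).map q = ⊤ := by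
      rw [hK]; exact Subgroup.map_top_of_surjective _ hq
    rw [eq_top_iff, ← h1, MonoidHom.map_closure]
    refine Subgroup.closure_mono ?_
    rintro _ ⟨y, ⟨k, hk⟩, rfl⟩
    exact ⟨k, by rw [← map_pow, hk, map_one]⟩

/-! ### Types -/

theorem noCE_psl {F : Type} [Field F] [Fintype F] {n : ℕ} (hF : Fintype.card F = 2 ^ n) (hn : 2 ≤ n) {r : ℕ}
    (hr : r.Prime) (hr2 : r ≠ 2) : NoCE 2 r (Matrix.ProjectiveSpecialLinearGroup (Fin 2) F) := by
  have := Fact.mk hr
  have := Fact.mk Nat.prime_two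
  have hc : CharP F 2 := by
    obtain ⟨p, hp⟩ := CharP.exists F
    have hpp : p.Prime := CharP.char_is_prime F p
    have := Fact.mk hpp
    obtain ⟨k, -, hk⟩ := FiniteField.card F p
    rw [hF] at hk
    have h1 : p ∣ 2 ^ n := by rw [hk]; exact dvd_pow_self p k.ne_zero
    have h2 := (Nat.prime_dvd_prime_iff_eq hpp Nat.prime_two).1 (hpp.dvd_of_dvd_pow h1)
    rwa [h2] at hp
  refine NoCE.of_cyclic_sylow Nat.prime_two hr hr2 fun S => ?_
  let π : Matrix.SpecialLinearGroup (Fin 2) F →* Matrix.ProjectiveSpecialLinearGroup (Fin 2) F :=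
    QuotientGroup.mk' _
  have hπ : Function.Surjective π := QuotientGroup.mk'_surjective _
  obtain ⟨R, hR⟩ := Sylow.mapSurjective_surjective hπ r S
  have h1 := S0262.result (F := F) 2 r hr2 hr2 R
  have h2 : (S : Subgroup (Matrix.ProjectiveSpecialLinearGroup (Fin 2) F)) =
      (R : Subgroup (Matrix.SpecialLinearGroup (Fin 2) F)).map π := by
    rw [← hR]; rfl
  show IsCyclic ↥(S : Subgroup (Matrix.ProjectiveSpecialLinearGroup (Fin 2) F))
  rw [h2]
  exact isCyclic_of_surjective _ (π.subgroupMap_surjective (R : Subgroup (Matrix.SpecialLinearGroup (Fin 2) F)))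

theorem noCE_suz {P : Type v} [Group P] (h : Lie.IsoSuzuki P) {r : ℕ} (hr : r.Prime) (hr2 : r ≠ 2) :
    NoCE 2 r P := by
  obtain ⟨F, _, _, m, hm, hF, ⟨e⟩⟩ := h
  have := Fact.mk hr
  have h1 : NoCE 2 r ↥(Cfsg.Lie.Sz F (2 ^ (m + 1))) :=
    NoCE.of_cyclic_sylow Nat.prime_two hr hr2 fun S => SzOdd.sylow_cyclic hm hF hr2 S
  exact h1.congr e.symm

/-! ### Rank one groups -/

/-- Rank one groups in characteristic two. -/
structure RkOne {P : Type v} [Group P] (A T : Subgroup P) (w : P) : Prop where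
  w_sq : w * w = 1
  pA : IsPGroup 2 A
  T_odd : Odd (Nat.card T)
  T_norm : ∀ t ∈ T, ∀ a ∈ A, t * a * t⁻¹ ∈ A
  T_w : ∀ t ∈ T, w * t * w ∈ T
  inter : ∀ a ∈ A, w * a * w ∈ A → a = 1
  rk : ∀ a ∈ A, a ≠ 1 → ∃ x ∈ A, ∃ t ∈ T, ∃ y ∈ A, w * a * w = x * w * t * y
  gen : ∀ K : Subgroup P, A ≤ K → (∀ a ∈ A, w * a * w ∈ K) → K = ⊤
  inv : ∃ x ∈ A, ∃ y ∈ A, x ≠ 1 ∧ y ≠ 1 ∧ x ≠ y ∧ x * x = 1 ∧ y * y = 1 ∧ x * y = y * x

namespace RkOne

variable {P : Type v} [Group P] [Finite P] {A T : Subgroup P} {w : P} (D : RkOne A T w)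

include D in
omit [Finite P] in
theorem w_inv : w⁻¹ = w := inv_eq_of_mul_eq_one_right D.w_sq

include D in
omit [Finite P] in
theorem mem_H {g : P} : g ∈ A ⊔ T ↔ ∃ a ∈ A, ∃ t ∈ T, a * t = g := by
  have hn : T ≤ Subgroup.normalizer (A : Set P) := by
    intro t ht
    rw [Subgroup.mem_normalizer_iff]
    intro x
    refine ⟨fun hx => D.T_norm t ht x hx, fun hx => ?_⟩
    have h1 := D.T_norm t⁻¹ (inv_mem ht) _ hx
    have e : t⁻¹ * (t * x * t⁻¹) * t⁻¹⁻¹ = x := by group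
    rwa [e] at h1
  have h2 : g ∈ A ⊔ T ↔ g ∈ ((A ⊔ T : Subgroup P) : Set P) := Iff.rfl
  rw [h2, Subgroup.coe_mul_of_right_le_normalizer_left _ _ hn]
  exact Set.mem_mul

include D in
theorem eq_one_of_mem {g : P} (hA : g ∈ A) (hT : g ∈ T) : g = 1 := by
  obtain ⟨k, hk⟩ := D.pA ⟨g, hA⟩
  have h1 : g ^ 2 ^ k = 1 := congrArg Subtype.val hk
  have h2 : g ^ Nat.card T = 1 := by
    have h3 : (⟨g, hT⟩ : T) ^ Nat.card T = 1 := pow_card_eq_one'
    exact congrArg Subtype.val h3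
  exact orderOf_eq_one_iff.1 (Nat.eq_one_of_dvd_coprimes
    (Nat.Coprime.pow_left k (Nat.coprime_two_left.2 D.T_odd)) (orderOf_dvd_of_pow_eq_one h1)
    (orderOf_dvd_of_pow_eq_one h2))

include D in
/-- The 2-elements of `A T` lie in `A`. -/
theorem mem_A {g : P} (hg : g ∈ A ⊔ T) {k : ℕ} (hk : g ^ 2 ^ k = 1) : g ∈ A := by
  obtain ⟨a, ha, t, ht, rfl⟩ := D.mem_H.1 hg
  -- powers of `a t`
  have key : ∀ n : ℕ, ∃ b ∈ A, (a * t) ^ n = b * t ^ n := by
    intro n
    induction n with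
    | zero => exact ⟨1, one_mem _, by simp⟩
    | succ n ih =>
      obtain ⟨b, hb, e⟩ := ih
      refine ⟨b * (t ^ n * a * (t ^ n)⁻¹), mul_mem hb (D.T_norm _ (pow_mem ht n) _ ha), ?_⟩
      rw [pow_succ, e, pow_succ]
      group
  obtain ⟨b, hb, e⟩ := key (2 ^ k)
  rw [hk] at e
  have h1 : t ^ 2 ^ k = b⁻¹ := by
    rw [eq_comm, inv_eq_iff_mul_eq_one]; exact e.symm
  have h2 : t ^ 2 ^ k = 1 := D.eq_one_of_mem (by rw [h1]; exact inv_mem hb) (pow_mem ht _)
  have h3 : t ^ Nat.card T = 1 := by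
    have h3 : (⟨t, ht⟩ : T) ^ Nat.card T = 1 := pow_card_eq_one'
    exact congrArg Subtype.val h3
  have h4 : t = 1 := orderOf_eq_one_iff.1 (Nat.eq_one_of_dvd_coprimes
    (Nat.Coprime.pow_left k (Nat.coprime_two_left.2 D.T_odd)) (orderOf_dvd_of_pow_eq_one h2)
    (orderOf_dvd_of_pow_eq_one h3))
  rw [h4, mul_one]
  exact ha

include D in
theorem ne_bot : ∃ a ∈ A, a ≠ 1 := by
  obtain ⟨x, hx, -, -, h1, -⟩ := D.inv
  exact ⟨x, hx, h1⟩

include D in
theorem w_notMem : w ∉ A ⊔ T := by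
  intro hw
  have h1 : w ∈ A := D.mem_A hw (k := 1) (by rw [pow_one, pow_two, D.w_sq])
  obtain ⟨a, ha, h2⟩ := D.ne_bot
  exact h2 (D.inter a ha (mul_mem (mul_mem h1 ha) h1))

include D in
theorem inter' {s : P} (hs : s ∈ A) (h : w⁻¹ * s * w ∈ A ⊔ T) : s = 1 := by
  rw [D.w_inv] at h
  obtain ⟨k, hk⟩ := D.pA ⟨s, hs⟩
  have h1 : s ^ 2 ^ k = 1 := congrArg Subtype.val hk
  refine D.inter s hs (D.mem_A h (k := k) ?_)
  have e : w * s * w = w * s * w⁻¹ := by rw [D.w_inv]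
  rw [e, conj_pow, h1]
  group

include D in
/-- The Bruhat decomposition. -/
theorem bruhat (g : P) : g ∈ A ⊔ T ∨ ∃ s ∈ A, (s * w)⁻¹ * g ∈ A ⊔ T := by
  have hAH : A ≤ A ⊔ T := le_sup_left
  have hTH : T ≤ A ⊔ T := le_sup_right
  -- closed under left multiplication by `w` and `A`
  have hA : ∀ a ∈ A, ∀ g, (g ∈ A ⊔ T ∨ ∃ s ∈ A, (s * w)⁻¹ * g ∈ A ⊔ T) →
      (a * g ∈ A ⊔ T ∨ ∃ s ∈ A, (s * w)⁻¹ * (a * g) ∈ A ⊔ T) := by
    rintro a ha g (h | ⟨s, hs, h⟩)
    · exact Or.inl (mul_mem (hAH ha) h)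
    · refine Or.inr ⟨a * s, mul_mem ha hs, ?_⟩
      have e : (a * s * w)⁻¹ * (a * g) = (s * w)⁻¹ * g := by group
      rwa [e]
  have hw : ∀ g, (g ∈ A ⊔ T ∨ ∃ s ∈ A, (s * w)⁻¹ * g ∈ A ⊔ T) →
      (w * g ∈ A ⊔ T ∨ ∃ s ∈ A, (s * w)⁻¹ * (w * g) ∈ A ⊔ T) := by
    rintro g (h | ⟨s, hs, h⟩)
    · refine Or.inr ⟨1, one_mem _, ?_⟩
      have e : (1 * w)⁻¹ * (w * g) = g := by group
      rwa [e]
    · by_cases h1 : s = 1
      · left
        rw [h1, one_mul, D.w_inv] at h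
        exact h
      · obtain ⟨x, hx, t, ht, y, hy, e⟩ := D.rk s hs h1
        right
        refine ⟨x, hx, ?_⟩
        have e1 : w * g = (w * s * w) * ((s * w)⁻¹ * g) := by group
        rw [e1, e]
        have e2 : (x * w)⁻¹ * (x * w * t * y * ((s * w)⁻¹ * g)) = t * y * ((s * w)⁻¹ * g) := by group
        rw [e2]
        exact mul_mem (mul_mem (hTH ht) (hAH hy)) h
  let K : Subgroup P :=
    { carrier := {k | (∀ g, (g ∈ A ⊔ T ∨ ∃ s ∈ A, (s * w)⁻¹ * g ∈ A ⊔ T) →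
        (k * g ∈ A ⊔ T ∨ ∃ s ∈ A, (s * w)⁻¹ * (k * g) ∈ A ⊔ T)) ∧
        (∀ g, (g ∈ A ⊔ T ∨ ∃ s ∈ A, (s * w)⁻¹ * g ∈ A ⊔ T) →
        (k⁻¹ * g ∈ A ⊔ T ∨ ∃ s ∈ A, (s * w)⁻¹ * (k⁻¹ * g) ∈ A ⊔ T))}
      mul_mem' := by
        rintro a b ⟨ha, ha'⟩ ⟨hb, hb'⟩
        refine ⟨fun g hg => ?_, fun g hg => ?_⟩
        · rw [mul_assoc]; exact ha _ (hb _ hg)
        · rw [mul_inv_rev, mul_assoc]; exact hb' _ (ha' _ hg)
      one_mem' := by
        refine ⟨fun g hg => ?_, fun g hg => ?_⟩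
        · rwa [one_mul]
        · rwa [inv_one, one_mul]
      inv_mem' := by
        rintro a ⟨ha, ha'⟩
        refine ⟨ha', ?_⟩
        rwa [inv_inv] }
  have hK : K = ⊤ := by
    refine D.gen K ?_ ?_
    · intro a ha
      exact ⟨hA a ha, hA _ (inv_mem ha)⟩
    · intro a ha
      refine ⟨fun g hg => ?_, fun g hg => ?_⟩
      · rw [mul_assoc, mul_assoc]; exact hw _ (hA a ha _ (hw _ hg))
      · rw [mul_inv_rev, mul_inv_rev, D.w_inv, mul_assoc, mul_assoc]
        exact hw _ (hA _ (inv_mem ha) _ (hw _ hg))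
  have h1 : g ∈ K := by rw [hK]; trivial
  have h2 := h1.1 1 (Or.inl (one_mem _))
  rwa [mul_one] at h2

include D in
theorem data : Data (A ⊔ T) A w where
  w_not_mem := D.w_notMem
  le := le_sup_left
  norm := by
    intro h hh s hs
    obtain ⟨a, ha, t, ht, rfl⟩ := D.mem_H.1 hh
    have e : a * t * s * (a * t)⁻¹ = a * (t * s * t⁻¹) * a⁻¹ := by group
    rw [e]
    exact mul_mem (mul_mem ha (D.T_norm t ht s hs)) (inv_mem ha)
  bruhat := fun g hg => (D.bruhat g).resolve_left hg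
  inter := fun _ hs h => D.inter' hs h

include D in
theorem mem_T (g : P) : g ∈ T ↔ g ∈ A ⊔ T ∧ w⁻¹ * g * w ∈ A ⊔ T := by
  constructor
  · intro h
    refine ⟨(le_sup_right : T ≤ A ⊔ T) h, (le_sup_right : T ≤ A ⊔ T) ?_⟩
    rw [D.w_inv]
    exact D.T_w g h
  · rintro ⟨h1, h2⟩
    obtain ⟨a, ha, t, ht, rfl⟩ := D.mem_H.1 h1
    have h3 : w⁻¹ * a * w ∈ A ⊔ T := by
      have e : w⁻¹ * a * w = (w⁻¹ * (a * t) * w) * (w * t * w)⁻¹ := by
        rw [D.w_inv]
        have e2 : (w * t * w)⁻¹ = w⁻¹ * t⁻¹ * w⁻¹ := by group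
        rw [e2]
        have e3 : w * (a * t) * w * (w⁻¹ * t⁻¹ * w⁻¹) = w * a * w⁻¹ := by group
        rw [e3, D.w_inv]
      rw [e]
      exact mul_mem h2 (inv_mem ((le_sup_right : T ≤ A ⊔ T) (D.T_w t ht)))
    rw [D.inter' ha h3, one_mul]
    exact ht

include D in
theorem card_H : Nat.card ↥(A ⊔ T) = Nat.card A * Nat.card T := by
  have h1 : Nat.card (A × T) = Nat.card A * Nat.card T := Nat.card_prod _ _
  rw [← h1]
  symm
  refine Nat.card_congr (Equiv.ofBijective (fun x : A × T => (⟨x.1 * x.2,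
    mul_mem ((le_sup_left : A ≤ A ⊔ T) x.1.2) ((le_sup_right : T ≤ A ⊔ T) x.2.2)⟩ : ↥(A ⊔ T))) ⟨?_, ?_⟩)
  · rintro ⟨a, t⟩ ⟨b, s⟩ h
    have h2 : (a : P) * t = b * s := congrArg Subtype.val h
    have h3 : (b : P)⁻¹ * a = s * (t : P)⁻¹ := by
      rw [inv_mul_eq_iff_eq_mul, ← mul_assoc, ← h2]; group
    have h4 : (b : P)⁻¹ * a = 1 :=
      D.eq_one_of_mem (mul_mem (inv_mem b.2) a.2) (by rw [h3]; exact mul_mem s.2 (inv_mem t.2))
    have h5 : (a : P) = b := (inv_mul_eq_one.1 h4).symm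
    rw [h5] at h2
    exact Prod.ext (Subtype.ext h5) (Subtype.ext (mul_left_cancel h2))
  · rintro ⟨g, hg⟩
    obtain ⟨a, ha, t, ht, e⟩ := D.mem_H.1 hg
    exact ⟨(⟨a, ha⟩, ⟨t, ht⟩), Subtype.ext e⟩

/-- The core of `A T`. -/
def KK (A T : Subgroup P) : Subgroup P := (A ⊔ T).normalCore

instance : (KK A T).Normal := Subgroup.normalCore_normal _

include D in
theorem KK_le_T : KK A T ≤ T := by
  intro g hg
  rw [D.mem_T]
  refine ⟨Subgroup.normalCore_le _ hg, ?_⟩
  have h1 := (inferInstance : (KK A T).Normal).conj_mem g hg w⁻¹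
  rw [inv_inv] at h1
  exact Subgroup.normalCore_le _ h1

include D in
theorem KK_central : KK A T ≤ center P := by
  have hA : ∀ k ∈ KK A T, ∀ a ∈ A, a * k = k * a := by
    intro k hk a ha
    have h1 : a * k * a⁻¹ * k⁻¹ ∈ KK A T :=
      mul_mem ((inferInstance : (KK A T).Normal).conj_mem k hk a) (inv_mem hk)
    have h2 : a * k * a⁻¹ * k⁻¹ ∈ A := by
      have e : a * k * a⁻¹ * k⁻¹ = a * (k * a⁻¹ * k⁻¹) := by group
      rw [e]
      exact mul_mem ha (D.T_norm k (D.KK_le_T hk) _ (inv_mem ha))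
    have h3 := D.eq_one_of_mem h2 (D.KK_le_T h1)
    have h4 : a * k = (a * k * a⁻¹ * k⁻¹) * (k * a) := by group
    rw [h4, h3, one_mul]
  have h1 : centralizer (KK A T : Set P) = ⊤ := by
    refine D.gen _ ?_ ?_
    · intro a ha
      rw [mem_centralizer_iff]
      exact fun k hk => (hA k hk a ha).symm
    · intro a ha
      rw [mem_centralizer_iff]
      intro k hk
      have h2 : w * k * w ∈ KK A T := by
        have := (inferInstance : (KK A T).Normal).conj_mem k hk w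
        rwa [D.w_inv] at this
      have h3 := hA _ h2 a ha
      calc k * (w * a * w) = (w * w) * k * (w * a * w) := by rw [D.w_sq, one_mul]
        _ = w * ((w * k * w) * a) * w := by group
        _ = w * (a * (w * k * w)) * w := by rw [h3]
        _ = (w * a * w) * k * (w * w) := by group
        _ = (w * a * w) * k := by rw [D.w_sq, mul_one]
  intro k hk
  rw [mem_center_iff]
  intro g
  have h2 : g ∈ centralizer (KK A T : Set P) := by rw [h1]; trivial
  rw [mem_centralizer_iff] at h2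
  exact (h2 k hk).symm

/-- the number of involutions -/
noncomputable def ninv (A : Subgroup P) : ℕ := Nat.card {x : P // x ∈ A ∧ x ≠ 1 ∧ x * x = 1}

/-- `P / K` -/
abbrev QQ (A T : Subgroup P) : Type v := P ⧸ KK A T

/-- the projection -/
def pr (A T : Subgroup P) : P →* QQ A T := QuotientGroup.mk' (KK A T)

omit [Finite P] in
theorem pr_surj : Function.Surjective (pr A T) := QuotientGroup.mk'_surjective _

omit [Finite P] in
theorem pr_eq_one {x : P} : pr A T x = 1 ↔ x ∈ KK A T := QuotientGroup.eq_one_iff x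

omit [Finite P] in
theorem ker_pr : (pr A T).ker = KK A T := by
  ext x
  exact pr_eq_one

omit [Finite P] in
theorem ker_pr_le : (pr A T).ker ≤ A ⊔ T := by
  rw [ker_pr]; exact Subgroup.normalCore_le _

include D in
theorem pr_inj {x y : P} (hx : x ∈ A) (hy : y ∈ A) (h : pr A T x = pr A T y) : x = y := by
  have h1 : x⁻¹ * y ∈ KK A T := by
    rw [← pr_eq_one, map_mul, map_inv, h, inv_mul_cancel]
  exact inv_mul_eq_one.1 (D.eq_one_of_mem (mul_mem (inv_mem hx) hy) (D.KK_le_T h1))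

include D in
/-- The quotient by the core. -/
theorem quot : RkOne (A.map (pr A T)) (T.map (pr A T)) (pr A T w) where
  w_sq := by rw [← map_mul, D.w_sq, map_one]
  pA := D.pA.map _
  T_odd := by
    have h1 : Nat.card ↥(T.map (pr A T)) ∣ Nat.card T := Subgroup.card_map_dvd T (pr A T)
    exact D.T_odd.of_dvd_nat h1
  T_norm := by
    rintro _ ⟨t, ht, rfl⟩ _ ⟨a, ha, rfl⟩
    exact ⟨_, D.T_norm t ht a ha, by simp⟩
  T_w := by
    rintro _ ⟨t, ht, rfl⟩
    exact ⟨_, D.T_w t ht, by simp⟩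
  inter := by
    rintro _ ⟨a, ha, rfl⟩ ⟨b, hb, h⟩
    have h1 : w⁻¹ * a * w ∈ A ⊔ T := by
      refine mem_of_map_mem (pr A T) ker_pr_le (H := A ⊔ T) ?_
      rw [D.w_inv, map_mul, map_mul]
      exact ⟨b, (le_sup_left : A ≤ A ⊔ T) hb, h⟩
    rw [D.inter' ha h1, map_one]
  rk := by
    rintro _ ⟨a, ha, rfl⟩ h1
    obtain ⟨x, hx, t, ht, y, hy, e⟩ := D.rk a ha (fun h => h1 (by rw [h, map_one]))
    refine ⟨_, ⟨x, hx, rfl⟩, _, ⟨t, ht, rfl⟩, _, ⟨y, hy, rfl⟩, ?_⟩
    have := congrArg (pr A T) e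
    simpa using this
  gen := by
    intro K h1 h2
    have h3 : K.comap (pr A T) = ⊤ := by
      refine D.gen _ ?_ ?_
      · intro a ha
        exact h1 ⟨a, ha, rfl⟩
      · intro a ha
        show pr A T (w * a * w) ∈ K
        rw [map_mul, map_mul]
        exact h2 _ ⟨a, ha, rfl⟩
    rw [eq_top_iff]
    intro x _
    obtain ⟨x, rfl⟩ := pr_surj x
    have h4 : x ∈ K.comap (pr A T) := by rw [h3]; trivial
    exact h4
  inv := by
    obtain ⟨x, hx, y, hy, h1, h2, h3, h4, h5, h6⟩ := D.inv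
    refine ⟨_, ⟨x, hx, rfl⟩, _, ⟨y, hy, rfl⟩, fun h => h1 ?_, fun h => h2 ?_, fun h => h3 ?_, ?_, ?_, ?_⟩
    · exact D.pr_inj hx (one_mem _) (by rw [h, map_one])
    · exact D.pr_inj hy (one_mem _) (by rw [h, map_one])
    · exact D.pr_inj hx hy h
    · rw [← map_mul, h4, map_one]
    · rw [← map_mul, h5, map_one]
    · rw [← map_mul, h6, map_mul]

/-- The core of the quotient is trivial. -/
theorem core_quot {g : QQ A T} (hg : ∀ k : QQ A T, k⁻¹ * g * k ∈ (A ⊔ T).map (pr A T)) : g = 1 := by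
  obtain ⟨g, rfl⟩ := pr_surj g
  rw [pr_eq_one]
  intro k
  have h1 := hg (pr A T k⁻¹)
  rw [← map_inv, ← map_mul, ← map_mul, inv_inv] at h1
  exact mem_of_map_mem (pr A T) ker_pr_le h1

include D in
theorem even_card : Even (Nat.card A) := by
  obtain ⟨x, hx, -, -, h1, -, -, h4, -, -⟩ := D.inv
  have h2 : orderOf (⟨x, hx⟩ : A) = 2 :=
    orderOf_eq_prime (by rw [pow_two]; exact Subtype.ext h4) (fun h => h1 (congrArg Subtype.val h))
  rw [even_iff_two_dvd, ← h2]
  exact orderOf_dvd_natCard _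

include D in
/-- The Frattini data: the rank one set-up. -/
theorem setup : IsRankOneSetup P (P ⧸ (A ⊔ T)) (QuotientGroup.mk 1) w A :=
  setup_of_data D.data D.w_sq D.even_card D.mem_T D.T_odd

include D in
theorem inv' : ∃ x y : P, x ≠ 1 ∧ y ≠ 1 ∧ x ≠ y ∧ x * x = 1 ∧ y * y = 1 ∧ x * y = y * x := by
  obtain ⟨x, -, y, -, h⟩ := D.inv
  exact ⟨x, y, h⟩

include D in
theorem inv_card : Nat.card (involutionsIn (stabilizer P (QuotientGroup.mk 1 : P ⧸ (A ⊔ T)) : Set P)) =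
    ninv A := by
  rw [stab_one]
  refine Nat.card_congr (Equiv.subtypeEquivRight fun x => ?_)
  constructor
  · rintro ⟨h1, h2, h3⟩
    exact ⟨D.mem_A h1 (k := 1) (by rw [pow_one, pow_two, h3]), h2, h3⟩
  · rintro ⟨h1, h2, h3⟩
    exact ⟨(le_sup_left : A ≤ A ⊔ T) h1, h2, h3⟩

include D in
theorem stab_inf : (stabilizer P (QuotientGroup.mk 1 : P ⧸ (A ⊔ T)) ⊓
    stabilizer P (w • (QuotientGroup.mk 1 : P ⧸ (A ⊔ T)))) = T := by
  ext g
  rw [Subgroup.mem_inf, stab_one, mem_stab_smul, D.mem_T]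

include D in
/-- The core-free case. -/
theorem main_faithful (hcore : ∀ g : P, (∀ k : P, k⁻¹ * g * k ∈ A ⊔ T) → g = 1) {k i : ℕ} (hk : 2 ≤ k)
    (hq : ninv A + 1 = 2 ^ k) (hi : Nat.card A = (2 ^ k) ^ i) (hi2 : i ≤ 2) :
    (∀ r : ℕ, r.Prime → r ≠ 2 → NoCE 2 r P) ∧ Nat.card T = 2 ^ k - 1 := by
  have hf : FaithfulSMul P (P ⧸ (A ⊔ T)) := faithful_of_core (A ⊔ T) hcore
  have hS := D.setup
  have h2 := D.inv'
  have htop : Cfsg.Agent.SuzukiRankOne.Reduction.invClosure P = ⊤ := by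
    refine D.gen _ ?_ ?_
    · exact Cfsg.Agent.SuzukiRankOne.Reduction.Q_le_invClosure hS h2
    · intro a ha
      have h1 := Cfsg.Agent.SuzukiRankOne.Reduction.t_mem_invClosure hS
      exact mul_mem (mul_mem h1 (Cfsg.Agent.SuzukiRankOne.Reduction.Q_le_invClosure hS h2 ha)) h1
  have hsimp : IsSimpleGroup P :=
    Cfsg.Agent.SuzukiRankOne.Reduction.isSimpleGroup_of_invClosure_eq_top hS h2 htop
  have hq' : Nat.card (involutionsIn (stabilizer P (QuotientGroup.mk 1 : P ⧸ (A ⊔ T)) : Set P)) + 1 = 2 ^ k := by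
    rw [D.inv_card, hq]
  constructor
  · intro r hr hr2
    rcases AschCrit.RankOneCases.type_cases hS h2 with ⟨-, -, F, _, _, ⟨n, hn, hF⟩, ⟨e⟩⟩ | ⟨-, -, h⟩ | ⟨h, -⟩
    · exact (noCE_psl hF hn hr hr2).congr e.symm
    · exact noCE_suz h hr hr2
    · exfalso
      rw [hq', hi] at h
      have := AschCrit.RankOneTypes.pow_two_inj hk h
      omega
  · have h1 := AschCrit.RankOneTypes.card_stab2_eq hS h2 hq' hi hk hi2
    rwa [D.stab_inf] at h1

include D in
/-- **Rank one groups.** -/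
theorem main {k i : ℕ} (hk : 2 ≤ k) (hq : ninv A + 1 = 2 ^ k) (hi : Nat.card A = (2 ^ k) ^ i) (hi2 : i ≤ 2) :
    (∀ r : ℕ, r.Prime → r ≠ 2 → NoCE 2 r P) ∧ Nat.card T = 2 ^ k - 1 := by
  have D' := D.quot
  have hcardA : Nat.card ↥(A.map (pr A T)) = Nat.card A :=
    Nat.card_congr (Equiv.ofBijective (fun a : A => (⟨pr A T a, ⟨a, a.2, rfl⟩⟩ : ↥(A.map (pr A T))))
      ⟨fun a b h => Subtype.ext (D.pr_inj a.2 b.2 (congrArg Subtype.val h)), by
        rintro ⟨_, ⟨a, ha, rfl⟩⟩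
        exact ⟨⟨a, ha⟩, rfl⟩⟩) |>.symm
  have hninv : ninv (A.map (pr A T)) = ninv A := by
    refine (Nat.card_congr (Equiv.ofBijective (fun a : {x : P // x ∈ A ∧ x ≠ 1 ∧ x * x = 1} =>
      (⟨pr A T a, ⟨a, a.2.1, rfl⟩, fun h => a.2.2.1 (D.pr_inj a.2.1 (one_mem _) (by rw [h, map_one])),
        by rw [← map_mul, a.2.2.2, map_one]⟩ :
        {x : QQ A T // x ∈ A.map (pr A T) ∧ x ≠ 1 ∧ x * x = 1})) ⟨?_, ?_⟩)).symm
    · intro a b h
      exact Subtype.ext (D.pr_inj a.2.1 b.2.1 (congrArg Subtype.val h))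
    · rintro ⟨_, ⟨a, ha, rfl⟩, h1, h2⟩
      refine ⟨⟨a, ha, fun h => h1 (by rw [h, map_one]), ?_⟩, rfl⟩
      exact D.pr_inj (mul_mem ha ha) (one_mem _) (by rw [map_mul, h2, map_one])
  obtain ⟨h1, h2⟩ := D'.main_faithful (by
    intro g hg
    refine core_quot (g := g) fun k => ?_
    rw [Subgroup.map_sup]
    exact hg k) hk (by rw [hninv, hq]) (by rw [hcardA, hi]) hi2
  -- the core is trivial
  have hgen : Subgroup.closure {x : P | ∃ k : ℕ, x ^ 2 ^ k = 1} = ⊤ := by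
    refine D.gen _ ?_ ?_
    · intro a ha
      obtain ⟨k, hk⟩ := D.pA ⟨a, ha⟩
      exact Subgroup.subset_closure ⟨k, congrArg Subtype.val hk⟩
    · intro a ha
      obtain ⟨k, hk⟩ := D.pA ⟨a, ha⟩
      refine Subgroup.subset_closure ⟨k, ?_⟩
      have h3 : a ^ 2 ^ k = 1 := congrArg Subtype.val hk
      have e : w * a * w = w * a * w⁻¹ := by rw [D.w_inv]
      rw [e, conj_pow, h3]
      group
  have hK : KK A T = ⊥ := by
    rw [← Subgroup.card_eq_one]
    by_contra hne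
    obtain ⟨r, hr, hdvd⟩ := Nat.exists_prime_and_dvd hne
    have hr2 : r ≠ 2 := by
      rintro rfl
      have h3 : Nat.card (KK A T) ∣ Nat.card T := Subgroup.card_dvd_of_le D.KK_le_T
      exact (Nat.not_even_iff_odd.2 D.T_odd) (even_iff_two_dvd.2 (hdvd.trans h3))
    refine noCE_not_dvd_card_ker hr (h1 r hr hr2) hgen (f := pr A T) pr_surj ?_ ?_
    · rw [ker_pr]; exact D.KK_central
    · rw [ker_pr]; exact hdvd
  have hinj : Function.Injective (pr A T) := by
    rw [← MonoidHom.ker_eq_bot_iff, ker_pr, hK]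
  let e : P ≃* QQ A T := MulEquiv.ofBijective (pr A T) ⟨hinj, pr_surj⟩
  refine ⟨fun r hr hr2 => (h1 r hr hr2).congr e.symm, ?_⟩
  rw [← h2]
  exact Nat.card_congr (Subgroup.equivMapOfInjective T (pr A T) hinj).toEquiv

end RkOne

end Cfsg.Agent.H67.RankOneId
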