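import Cfsg.Agent.H576.Ext.Defs
import Cfsg.Agent.H235.ExtOut
import Cfsg.Agent.H761.LieExt
import Cfsg.Agent.S0886
import Cfsg.Agent.S0887
import Cfsg.Agent.CharactersDeep.ExtGroup
import Cfsg.Agent.CharactersDeep.MaxInduced
import Cfsg.Agent.CharDeep.CliffordCorr
import Cfsg.Agent.CharDeep.IrrEquiv
import Cfsg.Agent.Characters.DefectZero
import Cfsg.Agent.Prune
set_option linter.all false
prune_inst 0x7f00000000000000000000000000000000000000000000000000000000000000000000000000000000000000000000000000000000000000000000000000000000000000000000000000000000000000003fffffffffffffffffffffffffffbeffbdfbfeffff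
open scoped Cfsg.Agent.FastGrp

/-!
# S4832 (hub helper576): basic extension lemmas (helper67)
-/

set_option autoImplicit false

open scoped ComplexConjugate
open Cfsg

namespace Cfsg.Agent.H67.ExtAbs

open Cfsg.Agent.Characters.Core

universe u v

section abs

variable {S : Type u} [Group S] [Finite S] {A : Type v} [Group A] [Finite A] (f : S →* A)
  (hf : Function.Injective f) (hn : f.range.Normal) {θ : S → ℂ} (hθ : IsIrrCharacter S θ)
  (hinv : ∀ (a : A) (s t : S), f t = a * f s * a⁻¹ → θ t = θ s)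

omit [Finite S] [Finite A] in
theorem mr (s : S) : f s ∈ f.range := ⟨s, rfl⟩

/-- `θ` as a function on the range -/
noncomputable def push (hf : Function.Injective f) (θ : S → ℂ) : f.range → ℂ :=
  θ ∘ (MonoidHom.ofInjective hf).symm

omit [Finite S] [Finite A] in
theorem push_apply (s : S) : push f hf θ ⟨f s, mr f s⟩ = θ s := by
  unfold push
  rw [Function.comp_apply]
  congr 1
  rw [MulEquiv.symm_apply_eq]
  rfl

omit [Finite S] [Finite A] in
theorem push_irr (hθ : IsIrrCharacter S θ) : IsIrrCharacter f.range (push f hf θ) :=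
  isIrr_comp ((MonoidHom.ofInjective hf).symm : f.range →* S) (MonoidHom.ofInjective hf).symm.surjective hθ

omit [Finite S] [Finite A] in
theorem push_one : push f hf θ 1 = θ 1 := by
  have := push_apply f hf (θ := θ) 1
  rw [← this]
  congr 1
  exact Subtype.ext (map_one f).symm

omit [Finite S] [Finite A] in
include hinv in
theorem push_inv (g : A) (n : f.range) : push f hf θ ⟨g * n * g⁻¹, hn.conj_mem (n : A) n.2 g⟩ = push f hf θ n := by
  obtain ⟨_, s, rfl⟩ := n
  obtain ⟨t, ht⟩ := hn.conj_mem (f s) (mr f s) g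
  have h1 : (⟨g * f s * g⁻¹, hn.conj_mem (f s) (mr f s) g⟩ : f.range) = ⟨f t, mr f t⟩ := Subtype.ext ht.symm
  calc push f hf θ ⟨g * f s * g⁻¹, _⟩ = push f hf θ ⟨f t, mr f t⟩ := by rw [h1]
    _ = θ t := push_apply f hf t
    _ = θ s := hinv g s t ht
    _ = push f hf θ ⟨f s, mr f s⟩ := (push_apply f hf s).symm

omit [Finite S] in
include hf hn hθ hinv in
/-- **the local criterion** -/
theorem ext_of_local (h : ∀ ℓ : ℕ, ℓ.Prime → (∃ (P : Subgroup A) (hP : f.range ≤ P) (η : P → ℂ), Nat.Coprime P.index ℓ ∧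
      IsIrrCharacter P η ∧ ∀ s : S, η ⟨f s, hP (mr f s)⟩ = θ s) ∨ (Nat.Coprime (charDegree θ) ℓ ∧ commutator S = ⊤)) :
    ∃ χ : A → ℂ, IsIrrCharacter A χ ∧ ∀ s, χ (f s) = θ s := by
  classical
  obtain ⟨χ, hχ, hres⟩ := CharactersDeep.ExtGroup.extends_of_local f.range (push f hf θ) (push_irr f hf hθ)
    (push_inv f hf hn hinv) (charDegree θ) (by rw [push_one, H669.Basic.charDegree_eq hθ]) (by
      intro ℓ hℓ
      rcases h ℓ hℓ with ⟨P, hP, η, h1, h2, h3⟩ | ⟨h1, h2⟩
      · refine Or.inl ⟨P, hP, η, h1, h2, ?_⟩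
        rintro ⟨_, s, rfl⟩
        exact (h3 s).trans (push_apply f hf s).symm
      · refine Or.inr ⟨h1, 1, isCharacter_one, rfl, ?_⟩
        intro n
        obtain ⟨m, ρ, hρ, hρθ⟩ := push_irr f hf hθ
        rw [CharDeep.IrrEquiv.detChar_apply ρ hρ hρθ (isIrr_isCharacter (push_irr f hf hθ)),
          ← CharDeep.IrrEquiv.detHom_apply]
        have h4 : ((CharDeep.IrrEquiv.detHom ρ).comp (MonoidHom.ofInjective hf : S →* f.range)).ker = ⊤ := by
          rw [eq_top_iff, ← h2]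
          exact Abelianization.commutator_subset_ker _
        obtain ⟨s, rfl⟩ := (MonoidHom.ofInjective hf).surjective n
        have h5 : s ∈ ((CharDeep.IrrEquiv.detHom ρ).comp (MonoidHom.ofInjective hf : S →* f.range)).ker := by
          rw [h4]; exact Subgroup.mem_top s
        rw [MonoidHom.mem_ker, MonoidHom.comp_apply] at h5
        have h6 : (CharDeep.IrrEquiv.detHom ρ) ((MonoidHom.ofInjective hf) s) = 1 := h5
        rw [h6]
        rfl)
  exact ⟨χ, hχ, fun s => (hres ⟨f s, mr f s⟩).trans (push_apply f hf s)⟩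

omit [Finite S] in
include hf hn hθ hinv in
/-- **cyclic quotient** -/
theorem ext_of_cyc (γ : A) (h : ∀ a : A, ∃ (k : ℤ) (s : S), a = f s * γ ^ k) :
    ∃ χ : A → ℂ, IsIrrCharacter A χ ∧ ∀ s, χ (f s) = θ s := by
  have hcyc : IsCyclic (A ⧸ f.range) := by
    refine ⟨⟨QuotientGroup.mk' f.range γ, fun x => ?_⟩⟩
    obtain ⟨a, rfl⟩ := QuotientGroup.mk'_surjective f.range x
    obtain ⟨k, s, rfl⟩ := h a
    refine Subgroup.mem_zpowers_iff.2 ⟨k, ?_⟩
    rw [map_mul, map_zpow]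
    have h1 : QuotientGroup.mk' f.range (f s) = 1 := (QuotientGroup.eq_one_iff _).2 (mr f s)
    rw [h1, one_mul]
  obtain ⟨χ, hχ, hres⟩ := S0886.result f.range hcyc (push f hf θ) (push_irr f hf hθ) (push_inv f hf hn hinv)
  exact ⟨χ, hχ, fun s => (hres ⟨f s, mr f s⟩).trans (push_apply f hf s)⟩

end abs

end Cfsg.Agent.H67.ExtAbs

namespace Cfsg.Agent.H576.Ext

open Cfsg.Agent.Characters.Core Cfsg.Agent.H67.ExtAbs

universe u v w

variable {S : Type u} [Group S] [Finite S] {θ : S → ℂ}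

/-- `s ↦ conj s` as a homomorphism to `A` -/
def cj {A : Subgroup (MulAut S)} (hI : (MulAut.conj (G := S)).range ≤ A) : S →* A :=
  (MulAut.conj (G := S)).codRestrict A fun s => hI ⟨s, rfl⟩

omit [Finite S] in
theorem conj_inj (hZ : Subgroup.center S = ⊥) : Function.Injective (MulAut.conj (G := S)) := by
  rw [← MonoidHom.ker_eq_bot_iff, ← le_bot_iff, ← hZ]
  intro s hs
  rw [MonoidHom.mem_ker] at hs
  rw [Subgroup.mem_center_iff]
  intro t
  have h1 := DFunLike.congr_fun hs t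
  rw [MulAut.conj_apply, MulAut.one_apply, mul_inv_eq_iff_eq_mul] at h1
  exact h1.symm

omit [Finite S] in
theorem cj_inj (hZ : Subgroup.center S = ⊥) {A : Subgroup (MulAut S)} (hI : (MulAut.conj (G := S)).range ≤ A) :
    Function.Injective (cj hI) := fun _ _ h => conj_inj hZ (congrArg Subtype.val h)

omit [Finite S] in
theorem cj_range {A : Subgroup (MulAut S)} (hI : (MulAut.conj (G := S)).range ≤ A) :
    (cj hI).range = (MulAut.conj (G := S)).range.subgroupOf A := by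
  ext x
  rw [Subgroup.mem_subgroupOf]
  constructor
  · rintro ⟨s, rfl⟩; exact ⟨s, rfl⟩
  · rintro ⟨s, hs⟩; exact ⟨s, Subtype.ext hs⟩

omit [Finite S] in
theorem conj_conj (α : MulAut S) (s : S) : α * MulAut.conj s * α⁻¹ = MulAut.conj (α s) := by
  ext x
  simp only [MulAut.conj_apply, _root_.MulAut.mul_apply, _root_.MulAut.inv_apply, _root_.map_mul, _root_.MulEquiv.apply_symm_apply, _root_.map_inv]

omit [Finite S] in
theorem cj_normal {A : Subgroup (MulAut S)} (hI : (MulAut.conj (G := S)).range ≤ A) : (cj hI).range.Normal := by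
  rw [cj_range]
  refine ⟨fun n hn a => ?_⟩
  rw [Subgroup.mem_subgroupOf] at hn ⊢
  obtain ⟨s, hs⟩ := hn
  refine ⟨(a : MulAut S) s, ?_⟩
  rw [← conj_conj, hs]
  rfl

omit [Finite S] in
theorem cj_inv (hZ : Subgroup.center S = ⊥) {A : Subgroup (MulAut S)} (hI : (MulAut.conj (G := S)).range ≤ A)
    (hA : A ≤ stab θ) (a : A) (s t : S) (h : cj hI t = a * cj hI s * a⁻¹) : θ t = θ s := by
  have h1 : MulAut.conj t = (a : MulAut S) * MulAut.conj s * (a : MulAut S)⁻¹ := congrArg Subtype.val h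
  rw [conj_conj] at h1
  rw [conj_inj hZ h1]
  exact hA a.2 s

omit [Finite S] in
theorem range_le_stab (hθ : IsClassFunction S θ) : (MulAut.conj (G := S)).range ≤ stab θ := by
  rintro _ ⟨s, rfl⟩ t
  exact hθ t s

omit [Finite S] in
theorem extTo_iff {A : Subgroup (MulAut S)} (hI : (MulAut.conj (G := S)).range ≤ A) :
    ExtTo θ A ↔ ∃ χ : A → ℂ, IsIrrCharacter A χ ∧ ∀ s, χ (cj hI s) = θ s :=
  ⟨fun ⟨χ, h1, h2⟩ => ⟨χ, h1, fun s => h2 s _⟩, fun ⟨χ, h1, h2⟩ => ⟨χ, h1, fun s _ => h2 s⟩⟩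

/-! ### basic properties -/

omit [Finite S] in
theorem stab_comp {S' : Type v} [Group S'] (e : S ≃* S') (θ : S' → ℂ) (α : MulAut S) :
    α ∈ stab (θ ∘ e) ↔ MulAut.congr e α ∈ stab θ := by
  constructor
  · intro h s
    have := h (e.symm s)
    simpa using this
  · intro h s
    have := h (e s)
    simpa using this

omit [Finite S] in
theorem charDegree_comp {S' : Type v} [Group S'] (e : S ≃* S') (θ : S' → ℂ) : charDegree (θ ∘ e) = charDegree θ := by
  unfold charDegree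
  rw [Function.comp_apply, map_one]

omit [Finite S] in
theorem HasExt.of_equiv' {S' : Type v} [Group S'] (e : S ≃* S') {p : ℕ} (h : HasExt p S') :
    HasExt p S := by
  obtain ⟨θ, hθ, hd, ψ, hψ, he⟩ := h
  have key : ∀ α : stab (θ ∘ e), MulAut.congr e α.1 ∈ stab θ := fun α => (stab_comp e θ α.1).1 α.2
  let F : stab (θ ∘ e) →* stab θ :=
    ((MulAut.congr e).toMonoidHom.comp (stab (θ ∘ e)).subtype).codRestrict (stab θ) key
  have hF : Function.Surjective F := by
    rintro ⟨β, hβ⟩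
    refine ⟨⟨(MulAut.congr e).symm β, ?_⟩, Subtype.ext ?_⟩
    · rw [stab_comp, MulEquiv.apply_symm_apply]; exact hβ
    · exact (MulAut.congr e).apply_symm_apply β
  refine ⟨θ ∘ e, isIrr_comp (e : S →* S') e.surjective hθ, ?_, ψ ∘ F, isIrr_comp F hF hψ, ?_⟩
  · rw [charDegree_comp]; exact hd
  · intro s hs
    have h1 : F ⟨MulAut.conj s, hs⟩ = ⟨MulAut.conj (e s), by
        have := key ⟨MulAut.conj s, hs⟩
        have h2 : MulAut.congr e (MulAut.conj s) = MulAut.conj (e s) := by ext x; simp only [_root_.MulAut.congr_apply, _root_.MulEquiv.trans_apply, _root_.MulAut.conj_apply, _root_.map_mul, _root_.MulEquiv.apply_symm_apply, _root_.map_inv]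
        rwa [h2] at this⟩ := by
      apply Subtype.ext
      show MulAut.congr e (MulAut.conj s) = MulAut.conj (e s)
      ext x; simp only [_root_.MulAut.congr_apply, _root_.MulEquiv.trans_apply, _root_.MulAut.conj_apply, _root_.map_mul, _root_.MulEquiv.apply_symm_apply, _root_.map_inv]
    rw [Function.comp_apply, h1]
    exact he _ _

theorem HasExt.of_equiv {S : Type u} {S' : Type v} [Group S] [Group S'] (e : S ≃* S') {p : ℕ} (h : HasExt p S') :
    HasExt p S := HasExt.of_equiv' e h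

theorem ExtTo.mono (hθ : IsIrrCharacter S θ) {A B : Subgroup (MulAut S)} (hI : (MulAut.conj (G := S)).range ≤ A)
    (hAB : A ≤ B) (h : ExtTo θ B) : ExtTo θ A := by
  obtain ⟨χ, h1, h2⟩ := (extTo_iff (hI.trans hAB)).1 h
  refine (extTo_iff hI).2 ⟨χ ∘ Subgroup.inclusion hAB, ?_, fun s => h2 s⟩
  refine CharactersDeep.MaxInduced.isIrr_of_comp (cj hI) (isCharacter_comp _ (isIrr_isCharacter h1)) ?_
  have h3 : (χ ∘ Subgroup.inclusion hAB) ∘ cj hI = θ := funext fun s => h2 s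
  rw [h3]
  exact hθ

theorem extTo_of_sylow (hZ : Subgroup.center S = ⊥) (hθ : IsIrrCharacter S θ) {A : Subgroup (MulAut S)}
    (hI : (MulAut.conj (G := S)).range ≤ A) (hA : A ≤ stab θ)
    (h : ∀ ℓ : ℕ, ℓ.Prime → ∃ P : Subgroup (MulAut S), (MulAut.conj (G := S)).range ≤ P ∧ P ≤ A ∧
      ¬ ℓ ∣ P.relIndex A ∧ ExtTo θ P) : ExtTo θ A := by
  refine (extTo_iff hI).2 (ext_of_local (cj hI) (cj_inj hZ hI) (cj_normal hI) hθ (cj_inv hZ hI hA) fun ℓ hℓ => Or.inl ?_)
  obtain ⟨P, h1, h2, h3, h4⟩ := h ℓ hℓ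
  obtain ⟨χ, h5, h6⟩ := (extTo_iff h1).1 h4
  refine ⟨P.subgroupOf A, ?_, χ ∘ (Subgroup.subgroupOfEquivOfLe h2), ?_, ?_, ?_⟩
  · rw [cj_range]; exact fun x hx => h1 hx
  · exact ((Nat.Prime.coprime_iff_not_dvd hℓ).2 h3).symm
  · exact isIrr_comp (Subgroup.subgroupOfEquivOfLe h2 : P.subgroupOf A →* P) (Subgroup.subgroupOfEquivOfLe h2).surjective h5
  · intro s
    exact h6 s

theorem extTo_of_cyc (hZ : Subgroup.center S = ⊥) (hθ : IsIrrCharacter S θ) {A : Subgroup (MulAut S)}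
    (hI : (MulAut.conj (G := S)).range ≤ A) (hA : A ≤ stab θ)
    (h : ∃ γ ∈ A, ∀ α ∈ A, ∃ (k : ℤ) (s : S), α = MulAut.conj s * γ ^ k) : ExtTo θ A := by
  obtain ⟨γ, hγ, h⟩ := h
  refine (extTo_iff hI).2 (ext_of_cyc (cj hI) (cj_inj hZ hI) (cj_normal hI) hθ (cj_inv hZ hI hA) ⟨γ, hγ⟩ ?_)
  rintro ⟨α, hα⟩
  obtain ⟨k, s, rfl⟩ := h α hα
  exact ⟨k, s, Subtype.ext rfl⟩

theorem inn_normal (S : Type*) [Group S] : (MulAut.conj (G := S)).range.Normal :=
  ⟨fun n hn a => by
    obtain ⟨s, rfl⟩ := hn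
    exact ⟨a s, (conj_conj a s).symm⟩⟩

omit [Finite S] in
/-- the Sylow subgroups of `A`, as subgroups of `Aut S` -/
theorem exists_sylow [Finite S] (A : Subgroup (MulAut S)) {ℓ : ℕ} (hℓ : ℓ.Prime) :
    ∃ Q : Subgroup (MulAut S), Q ≤ A ∧ IsPGroup ℓ Q ∧ ¬ ℓ ∣ ((MulAut.conj (G := S)).range ⊔ Q).relIndex A ∧
      ∃ k, (MulAut.conj (G := S)).range.relIndex ((MulAut.conj (G := S)).range ⊔ Q) = ℓ ^ k := by
  have hfl : Fact ℓ.Prime := ⟨hℓ⟩
  have hfin : Finite (MulAut S) := inferInstance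
  let Q : Sylow ℓ A := default
  refine ⟨(Q : Subgroup A).map A.subtype, ?_, Q.isPGroup'.map _, ?_, ?_⟩
  · exact Subgroup.map_subtype_le _
  · intro hd
    have h1 : ((Q : Subgroup A).map A.subtype).relIndex A = (Q : Subgroup A).index := by
      rw [Subgroup.relIndex, Subgroup.subgroupOf, Subgroup.comap_map_eq_self_of_injective A.subtype_injective]
    have h2 : ¬ ℓ ∣ (Q : Subgroup A).index := Q.not_dvd_index
    apply h2
    rw [← h1]
    exact hd.trans (Subgroup.relIndex_dvd_of_le_left A le_sup_right)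
  · have h3 : IsPGroup ℓ ((Q : Subgroup A).map A.subtype) := Q.isPGroup'.map _
    have := inn_normal S
    rw [Subgroup.relIndex_sup_left]
    obtain ⟨j, hj⟩ := h3.exists_card_eq
    obtain ⟨k, -, hk⟩ := (Nat.dvd_prime_pow hℓ).1 (hj ▸ Subgroup.relIndex_dvd_card (MulAut.conj (G := S)).range ((Q : Subgroup A).map A.subtype))
    exact ⟨k, hk⟩

theorem extTo_of_sylCyc (hZ : Subgroup.center S = ⊥) (hθ : IsIrrCharacter S θ) {A : Subgroup (MulAut S)}
    (hI : (MulAut.conj (G := S)).range ≤ A) (hA : A ≤ stab θ) (h : SylCycIn A) : ExtTo θ A := by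
  refine extTo_of_sylow hZ hθ hI hA fun ℓ hℓ => ?_
  obtain ⟨Q, h1, h2, h3, -⟩ := exists_sylow A hℓ
  obtain ⟨γ, hγ, hg⟩ := h ℓ hℓ Q h1 h2
  refine ⟨_, le_sup_left, sup_le hI h1, h3, extTo_of_cyc hZ hθ le_sup_left ((sup_le hI h1).trans hA) ⟨γ, le_sup_right (a := (MulAut.conj (G := S)).range) hγ, ?_⟩⟩
  intro α hα
  have := inn_normal S
  rw [← SetLike.mem_coe, Subgroup.normal_mul] at hα
  obtain ⟨_, ⟨s, rfl⟩, β, hβ, rfl⟩ := hα
  obtain ⟨k, t, rfl⟩ := hg β hβ
  refine ⟨k, s * t, ?_⟩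
  show MulAut.conj s * (MulAut.conj t * γ ^ k) = _
  rw [map_mul, mul_assoc]

omit [Finite S] in
theorem center_eq_bot [hS : IsSimpleGroup S] (hna : ¬ IsMulCommutative S) : Subgroup.center S = ⊥ := by
  rcases hS.eq_bot_or_eq_top_of_normal (Subgroup.center S) inferInstance with h | h
  · exact h
  · exfalso
    apply hna
    refine ⟨⟨fun x y => ?_⟩⟩
    have h1 : y ∈ Subgroup.center S := h ▸ Subgroup.mem_top y
    exact Subgroup.mem_center_iff.1 h1 x

/-- if the Sylow subgroups of `Out S` are cyclic every character extends to its stabiliser -/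
theorem hasExt_of_sylCyc [IsSimpleGroup S] (hna : ¬ IsMulCommutative S) (h : SylCyc S) {p : ℕ}
    (him : Cfsg.Agent.H671.H5.IM p S) : HasExt p S := by
  obtain ⟨χ, hχ⟩ := him
  exact ⟨χ, χ.2, hχ, extTo_of_sylCyc (center_eq_bot hna) χ.2 (range_le_stab (isIrr_isClassFunction χ.2)) le_rfl
    (SylCycIn.mono le_top h)⟩

omit [Finite S] in
/-- a character which extends to `Aut S` -/
theorem hasExt_of_extAut {χ : Cfsg.IrrCharacter S} (h : Cfsg.Agent.H671.H5.ExtAut χ) {p : ℕ}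
    (hp : p ∣ charDegree (χ : S → ℂ)) : HasExt p S := by
  obtain ⟨ψ, hψ⟩ := h
  have hst : stab (χ : S → ℂ) = ⊤ := by
    rw [eq_top_iff]
    intro α _ s
    rw [← hψ, ← hψ, ← conj_conj]
    exact isIrr_isClassFunction ψ.2 _ _
  refine ⟨χ, χ.2, hp, ?_⟩
  rw [hst]
  exact ⟨(ψ : MulAut S → ℂ) ∘ (⊤ : Subgroup (MulAut S)).subtype, isIrr_comp (⊤ : Subgroup (MulAut S)).subtype
    (fun x => ⟨⟨x, Subgroup.mem_top x⟩, rfl⟩) ψ.2, fun s _ => hψ s⟩

/-- defining characteristic: the Steinberg character -/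
theorem hasExt_char {p : ℕ} [Fact p.Prime] [IsSimpleGroup S] (h : IsLieTypeChar p S) (hd : p ∣ Nat.card S) :
    HasExt p S := by
  have hp : p.Prime := Fact.out
  obtain ⟨θ, h1, h2⟩ := H761.LieExt.ext_of_hasSplit (H979.LieSplit.hasSplit_of_isLieTypeChar hp h)
  refine hasExt_of_extAut h2 ?_
  rw [h1]
  refine dvd_pow_self p ?_
  exact (hp.factorization_pos_of_dvd Nat.card_pos.ne' hd).ne'

end Cfsg.Agent.H576.Ext
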